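import Cfsg.Agent.H923.S8.J2Sub
import Cfsg.Agent.H609.TH.Frat
import Cfsg.Agent.H277.U33.Psu
import Cfsg.Agent.H757.S8.KLe
import Cfsg.Agent.H757.S8.Tr
import Cfsg.Agent.H50.S8.FrobOf
import Cfsg.Agent.H715.Fpr.J2

/-!
# S4908, FROB for `J₂` (helper923)

`frob_j2` (`frob_G` on 100 points): the Frobenius group `7 : 6` of `J₂`; every proper subgroup `T` containing an element of order 7 or the
complement of order 6 satisfies `2 |T| k(T) ≤ |J₂|`.
-/

set_option autoImplicit false
set_option maxRecDepth 100000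

namespace Cfsg.Agent.H923.S8.J2

open Subgroup Cfsg
open Cfsg.Agent.SporadicA.J2Hundred Cfsg.Agent.J2.HundredGens Cfsg.Agent.H1.J2Cover
open Cfsg.Agent.H604.OZ (cent)
open Cfsg.Agent.OrdDiv Cfsg.Agent.H257.El Cfsg.Agent.H609.TH

/-! ### the Frobenius group -/

def ly : List ℕ := [3, 4, 2, 3, 1, 2, 3, 4, 0, 1, 2, 3, 2, 1, 0, 1, 2, 3, 4, 3, 2]
def lz : List ℕ := [3, 2, 3, 1, 2, 3, 2, 1, 0, 1, 2, 3, 4, 3, 2, 3, 1, 0, 1, 2, 3, 0, 1, 2, 3, 2]

theorem gw_eq {L M : List ℕ} (h : chk L M = true) : gw L = gw M := Subtype.ext (pw_eq h)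

theorem gw_ne {L M : List ℕ} (h : Nat.beq (run L 0) (run M 0) = false) : gw L ≠ gw M := by
  intro h1
  have h2 : pw L = pw M := congrArg Subtype.val h1
  have h3 : run L 0 = run M 0 := by
    have h4 := pw_val L 0
    rw [h2, pw_val] at h4
    exact h4.symm
  rw [h3, Nat.beq_refl] at h
  exact Bool.noConfusion h

theorem pow_seven (L : List ℕ) : gw L ^ 7 = gw (L ++ L ++ L ++ L ++ L ++ L ++ L) := by
  simp only [gw_append, pow_succ, pow_zero, one_mul]

theorem pow_five (L : List ℕ) : gw L ^ 5 = gw (L ++ L ++ L ++ L ++ L) := by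
  simp only [gw_append, pow_succ, pow_zero, one_mul]

theorem y_order : orderOf (gw ly) = 7 := by
  have : Fact (Nat.Prime 7) := ⟨by norm_num⟩
  refine orderOf_eq_prime ?_ ?_
  · rw [pow_seven, ← gw_nil]
    exact gw_eq (by decide +kernel)
  · rw [← gw_nil]
    exact gw_ne (by decide +kernel)

theorem z_sq : gw lz ^ 2 = gw (rL 4) := by
  rw [pow_two, ← gw_append]
  exact gw_eq (by decide +kernel)

theorem z_cube : gw lz ^ 3 ≠ 1 := by
  rw [pow_succ, pow_two, ← gw_append, ← gw_append, ← gw_nil]
  exact gw_ne (by decide +kernel)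

theorem r_four : orderOf (gw (rL 4)) = 3 ∧ cent (gw (rL 4)) = 36 := by
  obtain ⟨h1, h2⟩ := H121.OZ.JTwo.rep 4
  exact ⟨h1.trans (by decide +kernel), h2.trans (by decide +kernel)⟩

theorem z_order : orderOf (gw lz) = 6 := by
  have h6 : gw lz ^ 6 = 1 := by
    rw [show 6 = 2 * 3 from rfl, pow_mul, z_sq, ← r_four.1, pow_orderOf_eq_one]
  have h2 : gw lz ^ 2 ≠ 1 := by
    intro h
    have h1 := r_four.1
    rw [← z_sq, h, orderOf_one] at h1
    omega
  have hd := orderOf_dvd_of_pow_eq_one h6
  have hle := Nat.le_of_dvd (by norm_num) hd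
  have h0 : 0 < orderOf (gw lz) := orderOf_pos _
  have h2' : ¬ orderOf (gw lz) ∣ 2 := fun h => h2 (orderOf_dvd_iff_pow_eq_one.1 h)
  have h3' : ¬ orderOf (gw lz) ∣ 3 := fun h => z_cube (orderOf_dvd_iff_pow_eq_one.1 h)
  generalize orderOf (gw lz) = m at *
  interval_cases m <;> omega

theorem z_conj : gw lz * gw ly * (gw lz)⁻¹ = gw ly ^ 5 := by
  rw [pow_five, ← gw_reverse, ← gw_append, ← gw_append]
  exact gw_eq (by decide +kernel)

/-! ### the element of order 8 -/

open Cfsg.Agent.H819.U33 Cfsg.Agent.Classification.RTwo.UThreeThree in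
theorem exists_eight {K : Type*} [Group K] {F : Type*} [Field F] [Fintype F] (hF : Fintype.card F = 9)
    (h : Nonempty (K ≃* PSU 3 F 3)) : ∃ x : K, orderOf x = 8 := by
  obtain ⟨e⟩ := h
  obtain ⟨r⟩ : Nonempty (F ≃+* K9) := ⟨FiniteField.ringEquivOfCardEq (hF.trans card_k9.symm)⟩
  let f : PSU 3 K9 3 ≃* K := (e.trans (LieClassical.FieldTransfer.psuCongr 3 3 r)).symm
  have h8 := H277.U33.w_order
  refine ⟨f _, (MulEquiv.orderOf_eq f _).trans h8⟩

/-! ### the elements of order 7 -/

theorem sc : H537.Cop.SC 7 G := fun _ hx => cent_seven hx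

/-- a central involution over a 2-subgroup -/
theorem exists_e {A : Subgroup G} (hA : IsPGroup 2 A) : ∃ e : G, orderOf e = 2 ∧ cent e = 1920 ∧
    (∀ y ∈ A, y * e = e * y) ∧ IsPGroup 2 (A ⊔ zpowers e : Subgroup G) := by
  have : Fact (Nat.Prime 2) := ⟨Nat.prime_two⟩
  obtain ⟨S, hS⟩ := hA.exists_le_sylow
  have hSc : 2 ^ 7 ∣ Nat.card (S : Subgroup G) := S.pow_dvd_card_of_pow_dvd_card (by rw [card_eq]; norm_num)
  have hnt : Nontrivial (S : Subgroup G) := by
    rw [← Finite.one_lt_card_iff_nontrivial]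
    have := Nat.le_of_dvd Nat.card_pos hSc
    omega
  have hc := S.isPGroup'.center_nontrivial
  have hcp : IsPGroup 2 (center (S : Subgroup G)) := S.isPGroup'.to_subgroup _
  obtain ⟨j, hj⟩ := IsPGroup.iff_card.1 hcp
  have hj0 : j ≠ 0 := by
    rintro rfl
    have := Finite.one_lt_card_iff_nontrivial.2 hc
    rw [hj] at this
    norm_num at this
  obtain ⟨c, hc2⟩ := exists_prime_orderOf_dvd_card' (G := center (S : Subgroup G)) 2 (by
    rw [hj]
    exact dvd_pow_self 2 hj0)
  have hcG : orderOf (((c : (S : Subgroup G)) : G)) = 2 := by rw [orderOf_coe, orderOf_coe]; exact hc2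
  set e : G := ((c : (S : Subgroup G)) : G) with he
  have hce : ∀ y ∈ (S : Subgroup G), y * e = e * y := by
    intro y hy
    have h1 := mem_center_iff.1 c.2 ⟨y, hy⟩
    exact congrArg Subtype.val h1
  refine ⟨e, hcG, ?_, fun y hy => hce y (hS hy), ?_⟩
  · rcases cent_two hcG with h1 | h1
    · exact h1
    · exfalso
      have h2 : 2 ^ 7 ∣ cent e := hSc.trans (cent_dvd_of_le hce)
      rw [h1] at h2
      norm_num at h2
  · refine S.isPGroup'.to_le ?_
    rw [sup_le_iff, zpowers_le]
    exact ⟨hS, (c : (S : Subgroup G)).2⟩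

/-- no 2-subgroup is normalized by an element of order 7 -/
theorem free_two {y : G} (hy : orderOf y = 7) {A : Subgroup G} (h : El 2 (zpowers y) A) : False := by
  have f7 : Fact (Nat.Prime 7) := ⟨by norm_num⟩
  by_cases ha : ∃ a ∈ A, cent a = 1920
  · obtain ⟨a, haM, ha'⟩ := ha
    rcases two_a h haM ha' with h2 | h2 <;> rw [Nat.card_zpowers, hy] at h2 <;> norm_num at h2
  · push Not at ha
    obtain ⟨e, he2, he, hec, hep⟩ := exists_e h.grp
    obtain ⟨x, hx, hx1⟩ := h.exists_ne
    have hx2 := h.order Nat.prime_two hx hx1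
    have hx240 : cent x = 240 := (cent_two hx2).resolve_left (ha x hx)
    obtain ⟨k, hk0, hk, hkd⟩ := h.card Nat.prime_two
    -- the centralizer of `A`
    set C : Subgroup G := centralizer (A : Set G) with hC
    have hyC : ∀ g ∈ C, y * g * y⁻¹ ∈ C := by
      intro g hg
      rw [hC, mem_centralizer_iff] at hg ⊢
      intro w hw
      have h1 : y⁻¹ * w * y ∈ A := by
        have := h.norm y⁻¹ (inv_mem (mem_zpowers y)) w hw
        rwa [inv_inv] at this
      have h2 := hg _ h1
      calc w * (y * g * y⁻¹) = y * (y⁻¹ * w * y * g) * y⁻¹ := by group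
        _ = y * (g * (y⁻¹ * w * y)) * y⁻¹ := by rw [h2]
        _ = y * g * y⁻¹ * w := by group
    have hfix : ∀ D : Subgroup G, (∀ g ∈ D, y * g * y⁻¹ ∈ D) → ¬ 7 ∣ Nat.card D → Nat.card D % 7 = 1 := by
      intro D hD h7
      have h1 := J2Type.ThreeA.card_centralizer_modEq (p := 7) D hy hD
      have h2 : Nat.card (D ⊓ centralizer ({y} : Set G) : Subgroup G) = 1 := by
        have h3 : Nat.card (D ⊓ centralizer ({y} : Set G) : Subgroup G) ∣ 7 := by
          rw [← cent_seven hy]
          exact inf_dvd D y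
        rcases (Nat.dvd_prime f7.out).1 h3 with h4 | h4
        · exact h4
        · exfalso
          apply h7
          rw [← h4]
          exact card_dvd_of_le inf_le_left
      rw [h2] at h1
      exact h1
    have hCd : Nat.card C ∣ 240 := by
      rw [← hx240]
      exact cent_dvd_of_le fun g hg => ((mem_centralizer_iff.1 hg) x hx).symm
    have hC7 : ¬ 7 ∣ Nat.card C := fun h7 => by
      have := h7.trans hCd
      norm_num at this
    have hCm := hfix C hyC hC7
    have hAm := hfix A (fun g hg => h.norm y (mem_zpowers y) g hg) (by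
      intro h7
      rw [hk] at h7
      exact absurd (Nat.Prime.dvd_of_dvd_pow f7.out h7) (by norm_num))
    have hle : (A ⊔ zpowers e : Subgroup G) ≤ C := by
      rw [sup_le_iff, zpowers_le]
      refine ⟨fun g hg => mem_centralizer_iff.2 fun w hw => h.comm w hw g hg, mem_centralizer_iff.2 fun w hw => hec w hw⟩
    obtain ⟨i, hi⟩ := IsPGroup.iff_card.1 hep
    have hid : 2 ^ i ∣ Nat.card C := by rw [← hi]; exact card_dvd_of_le hle
    -- `e` is not in `A`
    have hki : k < i := by
      by_contra hlt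
      have heq : A = A ⊔ zpowers e := by
        apply eq_of_le_of_card_ge le_sup_left
        rw [hi, hk]
        exact Nat.pow_le_pow_right (by norm_num) (by omega)
      have heA : e ∈ A := by
        rw [heq]
        exact (le_sup_right : zpowers e ≤ _) (mem_zpowers e)
      exact ha e heA he
    rw [hk] at hAm
    have hi4 : i ≤ 4 := by
      by_contra hlt
      have h3 := ((pow_dvd_pow 2 (show 5 ≤ i by omega)).trans hid).trans hCd
      norm_num at h3
    have hk3' : k ≤ 3 := by omega
    have hk3 : k = 3 := by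
      interval_cases k <;> first | rfl | (norm_num at hAm)
    have h16 : 16 ∣ Nat.card C := by
      have h3 := (pow_dvd_pow 2 (show 4 ≤ i by omega)).trans hid
      norm_num at h3
      exact h3
    obtain ⟨q, hq⟩ := h16
    have hq15 : q ∣ 15 := by
      rw [hq] at hCd
      exact Nat.dvd_of_mul_dvd_mul_left (show 0 < 16 by norm_num) (hCd.trans (by norm_num))
    have hq' := Nat.le_of_dvd (by norm_num) hq15
    rw [hq] at hCm
    interval_cases q <;> omega

theorem free : Free 7 G := by
  intro y hy q hq hq7 R hR hyR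
  by_cases h2 : q = 2
  · subst h2
    by_contra hne
    have f2 : Fact (Nat.Prime 2) := ⟨Nat.prime_two⟩
    have hnt : Nontrivial R := (Subgroup.nontrivial_iff_ne_bot R).2 hne
    have hZ := hR.center_nontrivial
    -- the involutions of the centre
    let A : Subgroup G :=
      { carrier := {x | x ∈ R ∧ (∀ r ∈ R, x * r = r * x) ∧ x ^ 2 = 1}
        one_mem' := ⟨R.one_mem, fun r _ => by rw [one_mul, mul_one], one_pow 2⟩
        mul_mem' := by
          rintro a b ⟨ha, ha', ha2⟩ ⟨hb, hb', hb2⟩
          refine ⟨R.mul_mem ha hb, fun r hr => ?_, ?_⟩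
          · rw [mul_assoc, hb' r hr, ← mul_assoc, ha' r hr, mul_assoc]
          · rw [(show Commute a b from ha' b hb).mul_pow, ha2, hb2, one_mul]
        inv_mem' := by
          rintro a ⟨ha, ha', ha2⟩
          refine ⟨R.inv_mem ha, fun r hr => ?_, by rw [inv_pow, ha2, inv_one]⟩
          exact ((show Commute a r from ha' r hr).inv_left).eq }
    have hmem : ∀ x, x ∈ A ↔ x ∈ R ∧ (∀ r ∈ R, x * r = r * x) ∧ x ^ 2 = 1 := fun x => Iff.rfl
    have hyR' : ∀ k : ℤ, ∀ r ∈ R, y ^ k * r * (y ^ k)⁻¹ ∈ R := by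
      intro k r hr
      exact (mem_normalizer_iff.1 (zpow_mem hyR k) r).1 hr
    refine free_two hy (A := A) { ne := ?_, grp := ?_, exp := ?_, comm := ?_, norm := ?_ }
    · obtain ⟨j, hj⟩ := IsPGroup.iff_card.1 (hR.to_subgroup (center R))
      have hj0 : j ≠ 0 := by
        rintro rfl
        have := Finite.one_lt_card_iff_nontrivial.2 hZ
        rw [hj] at this
        norm_num at this
      obtain ⟨c, hc2⟩ := exists_prime_orderOf_dvd_card' (G := center R) 2 (by rw [hj]; exact dvd_pow_self 2 hj0)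
      have hc1 : orderOf (((c : R) : G)) = 2 := by rw [orderOf_coe, orderOf_coe]; exact hc2
      intro hbot
      have h3 : ((c : R) : G) ∈ A := by
        refine (hmem _).2 ⟨(c : R).2, fun r hr => ?_, by rw [← hc1, pow_orderOf_eq_one]⟩
        exact (congrArg Subtype.val (mem_center_iff.1 c.2 ⟨r, hr⟩)).symm
      rw [hbot, mem_bot] at h3
      rw [h3, orderOf_one] at hc1
      omega
    · exact hR.to_le fun x hx => ((hmem x).1 hx).1
    · exact fun x hx => ((hmem x).1 hx).2.2
    · exact fun x hx w hw => ((hmem x).1 hx).2.1 w ((hmem w).1 hw).1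
    · intro g hg x hx
      obtain ⟨k, rfl⟩ := mem_zpowers_iff.1 hg
      obtain ⟨h3, h4, h5⟩ := (hmem x).1 hx
      refine (hmem _).2 ⟨hyR' k x h3, fun r hr => ?_, ?_⟩
      · have h6 : (y ^ k)⁻¹ * r * y ^ k ∈ R := by
          have := hyR' (-k) r hr
          rwa [zpow_neg, inv_inv] at this
        have h7 := h4 _ h6
        calc y ^ k * x * (y ^ k)⁻¹ * r = y ^ k * (x * ((y ^ k)⁻¹ * r * y ^ k)) * (y ^ k)⁻¹ := by group
          _ = y ^ k * ((y ^ k)⁻¹ * r * y ^ k * x) * (y ^ k)⁻¹ := by rw [h7]
          _ = r * (y ^ k * x * (y ^ k)⁻¹) := by group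
      · rw [conj_pow, h5, mul_one, mul_inv_cancel]
  · -- the other primes
    have hok : ∀ x ∈ ([(2, 7), (3, 3), (5, 2), (7, 1)] : List (ℕ × ℕ)), x.1 = 2 ∨ x.1 = 7 ∨
        okPow [(2, 7), (3, 3), (5, 2), (7, 1)] 7 x.1 = true := by decide +kernel
    by_cases hqn : q ∣ 604800
    · obtain ⟨k, hk, -⟩ := exists_pair (l := [(2, 7), (3, 3), (5, 2), (7, 1)]) (N := 604800) (by decide +kernel) hq le_rfl
        (by rwa [pow_one])
      rcases hok _ hk with h1 | h1 | h1
      · exact absurd h1 h2
      · exact absurd h1 hq7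
      · exact bot_of_okPow (l := [(2, 7), (3, 3), (5, 2), (7, 1)]) (n := 604800) card_eq (by decide +kernel) (by norm_num)
          sc hy hq hq7 h1 hR hyR
    · have hq' : Fact q.Prime := ⟨hq⟩
      obtain ⟨b, hb⟩ := IsPGroup.iff_card.1 hR
      rcases Nat.eq_zero_or_pos b with rfl | hb0
      · rw [pow_zero] at hb
        exact card_eq_one.1 hb
      · exfalso
        apply hqn
        rw [← card_eq]
        refine dvd_trans ?_ (card_subgroup_dvd_card R)
        rw [hb]
        exact dvd_pow_self q hb0.ne'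

/-! ### the subgroup of index 50 -/

/-- the centralizer of an element of order 3 with centralizer of order 36 has a normal four-subgroup -/
theorem exists_four {f : G} (hf : cent f = 36) : ∃ V : Subgroup G, Nat.card V = 4 ∧ V ≤ centralizer ({f} : Set G) ∧
    ∀ g ∈ centralizer ({f} : Set G), ∀ v ∈ V, g * v * g⁻¹ ∈ V := by
  obtain ⟨t, u, Q, v, ρ, D⟩ := KFacts.J2.Facts.exists_dat_of isoG
  have h := D.F
  obtain ⟨f0, U, V, H0, F⟩ := J2Type.CentU.main h
  obtain ⟨d, hd, hdV, hdH⟩ := J2Type.ThreeA.exists_d h F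
  have h36 : cent f0 = 36 := J2Type.ThreeD.card_centralizer_f h F hd hdH
  have hcf : IsConj f0 f := H121.OZ.JTwo.conj_of 4 (by decide +kernel) F.f_ord h36 (order_of_36 hf) hf
  obtain ⟨g, hg⟩ := isConj_iff.1 hcf
  set C0 := centralizer ({f0} : Set G) with hC0
  have hVC : V ≤ C0 := fun x hx => mem_centralizer_singleton_iff.2 ((F.memV x).1 hx).2.2
  have hdC : d ∈ C0 := mem_centralizer_singleton_iff.2 (hdH f0 F.f_mem)
  have hfC : f0 ∈ C0 := mem_centralizer_singleton_iff.2 rfl
  -- the normalizer of `V` in `C0`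
  have f3 : Fact (Nat.Prime 3) := ⟨by norm_num⟩
  have hnorm : ∀ x ∈ C0, ∀ w ∈ V, x * w * x⁻¹ ∈ V := by
    set W : Subgroup G := C0 ⊓ normalizer (V : Set G) with hW
    have hVW : V ≤ W := le_inf hVC le_normalizer
    have hdN : d ∈ normalizer (V : Set G) := by
      have h1 : V.map (MulAut.conj d).toMonoidHom = V := by
        refine eq_of_le_of_card_ge ?_ (by rw [card_map_of_injective (MulAut.conj d).injective])
        rintro _ ⟨x, hx, rfl⟩
        exact hdV x hx
      rw [mem_normalizer_iff]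
      intro x
      constructor
      · exact fun hx => hdV x hx
      · intro hx
        rw [← h1] at hx
        obtain ⟨w, hw, hwx⟩ := hx
        have : w = x := (MulAut.conj d).injective hwx
        rwa [← this]
    have hfN : f0 ∈ normalizer (V : Set G) := by
      rw [mem_normalizer_iff]
      intro x
      constructor
      · intro hx
        have h1 := ((F.memV x).1 hx).2.2
        rw [← h1, mul_inv_cancel_right]
        exact hx
      · intro hx
        have h1 := ((F.memV _).1 hx).2.2
        have h2 : x = f0⁻¹ * (f0 * x * f0⁻¹) * f0 := by group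
        have h3 : f0⁻¹ * (f0 * x * f0⁻¹) * f0 = f0 * x * f0⁻¹ := by
          rw [mul_assoc, h1, inv_mul_cancel_left]
        rw [h2, h3]
        exact hx
    have hdW : d ∈ W := mem_inf.2 ⟨hdC, hdN⟩
    have hfW : f0 ∈ W := mem_inf.2 ⟨hfC, hfN⟩
    have h4 : 4 ∣ Nat.card W := by rw [← F.cardV]; exact card_dvd_of_le hVW
    have h9 : 9 ∣ Nat.card W := by
      have hpg := sup_pgroup (zp_pgroup hd) (zp_pgroup F.f_ord) (hdH f0 F.f_mem)
      obtain ⟨j, hj⟩ := IsPGroup.iff_card.1 hpg
      have hj2 : 2 ≤ j := by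
        by_contra hlt
        have h1 : Nat.card (zpowers d ⊔ zpowers f0 : Subgroup G) ≤ 3 := by
          rw [hj]
          exact (Nat.pow_le_pow_right (by norm_num) (show j ≤ 1 by omega)).trans_eq (pow_one 3)
        have h2 : zpowers f0 = zpowers d ⊔ zpowers f0 := by
          apply eq_of_le_of_card_ge le_sup_right
          rw [Nat.card_zpowers, F.f_ord]
          exact h1
        have h3 : zpowers d = zpowers d ⊔ zpowers f0 := by
          apply eq_of_le_of_card_ge le_sup_left
          rw [Nat.card_zpowers, hd]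
          exact h1
        exact (J2Type.ThreeE.f_notMem h F hd hdH) (by rw [h3, ← h2]; exact mem_zpowers f0)
      have h1 : 3 ^ 2 ∣ Nat.card W := by
        refine (pow_dvd_pow 3 hj2).trans ?_
        rw [← hj]
        refine card_dvd_of_le ?_
        rw [sup_le_iff, zpowers_le, zpowers_le]
        exact ⟨hdW, hfW⟩
      norm_num at h1
      exact h1
    have h36W : 36 ≤ Nat.card W := Nat.le_of_dvd Nat.card_pos (by
      have := Nat.Coprime.mul_dvd_of_dvd_of_dvd (show Nat.Coprime 4 9 by norm_num) h4 h9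
      norm_num at this
      exact this)
    have hWC : W = C0 := by
      apply eq_of_le_of_card_ge inf_le_left
      rw [show Nat.card C0 = 36 from h36]
      exact h36W
    intro x hx w hw
    rw [← hWC] at hx
    exact (mem_normalizer_iff.1 (mem_inf.1 hx).2 w).1 hw
  refine ⟨V.map (MulAut.conj g).toMonoidHom, ?_, ?_, ?_⟩
  · rw [card_map_of_injective (MulAut.conj g).injective, F.cardV]
  · rintro _ ⟨x, hx, rfl⟩
    have h1 := mem_centralizer_singleton_iff.1 (hVC hx)
    rw [mem_centralizer_singleton_iff, ← hg]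
    show g * x * g⁻¹ * (g * f0 * g⁻¹) = g * f0 * g⁻¹ * (g * x * g⁻¹)
    calc g * x * g⁻¹ * (g * f0 * g⁻¹) = g * (x * f0) * g⁻¹ := by group
      _ = g * (f0 * x) * g⁻¹ := by rw [h1]
      _ = _ := by group
  · rintro c hc _ ⟨x, hx, rfl⟩
    have hc' : g⁻¹ * c * g ∈ C0 := by
      have h1 := mem_centralizer_singleton_iff.1 hc
      rw [← hg] at h1
      rw [hC0, mem_centralizer_singleton_iff]
      calc g⁻¹ * c * g * f0 = g⁻¹ * (c * (g * f0 * g⁻¹)) * g := by group
        _ = g⁻¹ * (g * f0 * g⁻¹ * c) * g := by rw [h1]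
        _ = f0 * (g⁻¹ * c * g) := by group
    refine ⟨g⁻¹ * c * g * x * (g⁻¹ * c * g)⁻¹, hnorm _ hc' x hx, ?_⟩
    show g * (g⁻¹ * c * g * x * (g⁻¹ * c * g)⁻¹) * g⁻¹ = c * (g * x * g⁻¹) * c⁻¹
    group

/-- the involution of `C(f)` is a commutator -/
theorem comm_four {f t c : G} (hf : cent f = 36) (htf : t * f = f * t) (ht : orderOf t = 2) (hcf : c * f = f * c)
    (hc3 : orderOf c = 3) (hct : c * t ≠ t * c) : t = c * (c * t * c⁻¹) * c⁻¹ * (c * t * c⁻¹)⁻¹ := by
  obtain ⟨V, hV4, hVC, hVn⟩ := exists_four hf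
  have htC : t ∈ centralizer ({f} : Set G) := mem_centralizer_singleton_iff.2 htf
  have hcC : c ∈ centralizer ({f} : Set G) := mem_centralizer_singleton_iff.2 hcf
  have f2 : Fact (Nat.Prime 2) := ⟨Nat.prime_two⟩
  have hVp : IsPGroup 2 V := IsPGroup.of_card (n := 2) (by rw [hV4]; norm_num)
  -- `t` lies in `V`
  have htV : t ∈ V := by
    have hpg : IsPGroup 2 (zpowers t ⊔ V : Subgroup G) := by
      refine IsPGroup.to_sup_of_normal_right' (zp_pgroup ht) hVp ?_
      rw [zpowers_le, mem_normalizer_iff]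
      intro y
      constructor
      · exact fun hy => hVn t htC y hy
      · intro hy
        have h1 := hVn t⁻¹ (inv_mem htC) _ hy
        have h2 : t⁻¹ * (t * y * t⁻¹) * t⁻¹⁻¹ = y := by group
        rwa [h2] at h1
    obtain ⟨i, hi⟩ := IsPGroup.iff_card.1 hpg
    have hid : 2 ^ i ∣ 36 := by
      rw [← hi, ← hf]
      refine card_dvd_of_le ?_
      rw [sup_le_iff, zpowers_le]
      exact ⟨htC, hVC⟩
    have hi2 : i ≤ 2 := by
      by_contra hlt
      have h3 := (pow_dvd_pow 2 (show 3 ≤ i by omega)).trans hid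
      norm_num at h3
    have heq : V = zpowers t ⊔ V := by
      apply eq_of_le_of_card_ge le_sup_right
      rw [hi, hV4]
      exact (Nat.pow_le_pow_right (by norm_num) hi2).trans_eq (by norm_num)
    rw [heq]
    exact (le_sup_left : zpowers t ≤ _) (mem_zpowers t)
  have hcomm : ∀ a ∈ V, ∀ b ∈ V, a * b = b * a := by
    intro a ha b hb
    have h1 := (IsPGroup.isMulCommutative_of_card_eq_prime_sq (p := 2) (G := V) (by rw [hV4]; norm_num)).is_comm.comm
      ⟨a, ha⟩ ⟨b, hb⟩
    exact congrArg Subtype.val h1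
  set t1 := c * t * c⁻¹ with ht1
  set t2 := c * t1 * c⁻¹ with ht2
  have h1V : t1 ∈ V := hVn c hcC t htV
  have h2V : t2 ∈ V := hVn c hcC t1 h1V
  have htt : t * t = 1 := eq_inv_of_two ht
  have htt1 : t1 * t1 = 1 := by
    calc t1 * t1 = c * (t * t) * c⁻¹ := by rw [ht1]; group
      _ = 1 := by rw [htt]; group
  have hne1 : t ≠ 1 := by
    rintro h
    rw [h, orderOf_one] at ht
    omega
  have hne1' : t1 ≠ 1 := fun h => hne1 (conj_eq_one_iff.1 h)
  have hne2' : t2 ≠ 1 := fun h => hne1' (conj_eq_one_iff.1 h)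
  have ht1t : t1 ≠ t := by
    intro h
    apply hct
    calc c * t = t1 * c := by rw [ht1]; group
      _ = t * c := by rw [h]
  have ht2t1 : t2 ≠ t1 := by
    intro h
    apply ht1t
    have h3 : c * t1 * c⁻¹ = c * t * c⁻¹ := h
    exact mul_left_cancel (mul_right_cancel h3)
  have hc3' : c * c * c = 1 := by
    have := pow_orderOf_eq_one c
    rw [hc3, pow_succ, pow_two] at this
    exact this
  have ht2t : t2 ≠ t := by
    intro h
    apply hct
    have h3 : c * c * t = t * (c * c) := by
      calc c * c * t = t2 * (c * c) := by rw [ht2, ht1]; group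
        _ = t * (c * c) := by rw [h]
    have h4 : c⁻¹ = c * c := by
      apply inv_eq_of_mul_eq_one_right
      rw [← mul_assoc]
      exact hc3'
    rw [← h4] at h3
    calc c * t = c * (t * c⁻¹) * c := by group
      _ = c * (c⁻¹ * t) * c := by rw [h3]
      _ = t * c := by group
  -- the four elements of `V`
  have hmulV : t * t1 ∈ V := mul_mem htV h1V
  have h01 : t * t1 ≠ 1 := by
    intro h
    apply ht1t
    calc t1 = t * (t * t1) := by rw [← mul_assoc, htt, one_mul]
      _ = t := by rw [h, mul_one]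
  have key : t2 = t * t1 := by
    by_contra hne
    have hsub : ({1, t, t1, t * t1, t2} : Finset G) ⊆ (Set.toFinite (V : Set G)).toFinset := by
      intro x hx
      rw [Set.Finite.mem_toFinset]
      simp only [Finset.mem_insert, Finset.mem_singleton] at hx
      rcases hx with rfl | rfl | rfl | rfl | rfl
      · exact V.one_mem
      · exact htV
      · exact h1V
      · exact hmulV
      · exact h2V
    have h5 : ({1, t, t1, t * t1, t2} : Finset G).card = 5 := by
      rw [Finset.card_insert_of_notMem, Finset.card_insert_of_notMem, Finset.card_insert_of_notMem,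
        Finset.card_insert_of_notMem, Finset.card_singleton]
      · simp only [Finset.mem_singleton]
        exact fun h => hne h.symm
      · simp only [Finset.mem_insert, Finset.mem_singleton, not_or]
        exact ⟨fun h => hne1 (mul_eq_right.1 h.symm), fun h => ht2t1 h.symm⟩
      · simp only [Finset.mem_insert, Finset.mem_singleton, not_or]
        exact ⟨fun h => ht1t h.symm, fun h => hne1' (mul_eq_left.1 h.symm), fun h => ht2t h.symm⟩
      · simp only [Finset.mem_insert, Finset.mem_singleton, not_or]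
        exact ⟨fun h => hne1 h.symm, fun h => hne1' h.symm, fun h => h01 h.symm, fun h => hne2' h.symm⟩
    have h6 := Finset.card_le_card hsub
    rw [h5, ← Set.ncard_eq_toFinset_card (V : Set G)] at h6
    have h7 : (V : Set G).ncard = 4 := hV4
    omega
  have hinv : t1⁻¹ = t1 := inv_eq_of_mul_eq_one_left htt1
  rw [hinv, key, mul_assoc, htt1, mul_one]

/-- a subgroup of order divisible by 27 which contains the complement -/
theorem exists_c {T : Subgroup G} (h27 : 27 ∣ Nat.card T) {z : G} (hzT : z ∈ T) (hz : orderOf z = 6)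
    (hz36 : cent (z ^ 2) = 36) : ∃ c ∈ T, z ^ 3 = c * (c * z ^ 3 * c⁻¹) * c⁻¹ * (c * z ^ 3 * c⁻¹)⁻¹ := by
  have f3 : Fact (Nat.Prime 3) := ⟨by norm_num⟩
  have hf3 := order_of_36 hz36
  have ht2 : orderOf (z ^ 3) = 2 := by rw [orderOf_pow, hz]; decide
  have hfT : z ^ 2 ∈ T := pow_mem hzT 2
  have htf : z ^ 3 * z ^ 2 = z ^ 2 * z ^ 3 := by rw [← pow_add, ← pow_add]
  have hp : IsPGroup 3 (zpowers (⟨z ^ 2, hfT⟩ : T)) :=
    IsPGroup.of_card (n := 1) (by rw [Nat.card_zpowers, Subgroup.orderOf_mk, hf3, pow_one])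
  obtain ⟨P, hP⟩ := hp.exists_le_sylow
  have hP27 : 3 ^ 3 ∣ Nat.card P := P.pow_dvd_card_of_pow_dvd_card (by norm_num; exact h27)
  have hfP : (⟨z ^ 2, hfT⟩ : T) ∈ (P : Subgroup T) := hP (mem_zpowers _)
  have hnt : Nontrivial (P : Subgroup T) := by
    rw [← Finite.one_lt_card_iff_nontrivial]
    have := Nat.le_of_dvd Nat.card_pos hP27
    omega
  have hZ := P.isPGroup'.center_nontrivial
  obtain ⟨j, hj⟩ := IsPGroup.iff_card.1 (P.isPGroup'.to_subgroup (center (P : Subgroup T)))
  have hj0 : j ≠ 0 := by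
    rintro rfl
    have := Finite.one_lt_card_iff_nontrivial.2 hZ
    rw [hj] at this
    norm_num at this
  obtain ⟨c, hc3⟩ := exists_prime_orderOf_dvd_card' (G := center (P : Subgroup T)) 3 (by
    rw [hj]
    exact dvd_pow_self 3 hj0)
  set e : T := ((c : (P : Subgroup T)) : T) with he
  have hce : ∀ y ∈ (P : Subgroup T), y * e = e * y := by
    intro y hy
    exact congrArg Subtype.val (mem_center_iff.1 c.2 ⟨y, hy⟩)
  have he3 : orderOf (e : G) = 3 := by rw [orderOf_coe, he, orderOf_coe, orderOf_coe]; exact hc3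
  have hef : (e : G) * z ^ 2 = z ^ 2 * e := congrArg Subtype.val (hce _ hfP).symm
  have hnot : ¬ (e : G) ∈ zpowers (z ^ 2) := by
    intro hmem
    have h1 : zpowers (e : G) = zpowers (z ^ 2) := by
      apply eq_of_le_of_card_ge
      · rwa [zpowers_le]
      · rw [Nat.card_zpowers, Nat.card_zpowers, he3, hf3]
    have h2 : z ^ 2 ∈ zpowers (e : G) := by rw [h1]; exact mem_zpowers _
    have h3 : 27 ∣ 36 := by
      rw [← hz36]
      have h4 : Nat.card ((P : Subgroup T).map T.subtype) = Nat.card P := card_map_of_injective T.subtype_injective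
      have h5 : (27 : ℕ) ∣ Nat.card ((P : Subgroup T).map T.subtype) := by
        rw [h4]
        norm_num at hP27
        exact hP27
      refine h5.trans (cent_dvd_of_le ?_)
      rintro _ ⟨y, hy, rfl⟩
      obtain ⟨k, hk⟩ := mem_zpowers_iff.1 h2
      rw [← hk]
      have h6 : Commute (y : G) (e : G) := congrArg Subtype.val (hce y hy)
      exact (h6.zpow_right k).eq
    norm_num at h3
  refine ⟨e, e.2, comm_four hz36 htf ht2 hef he3 ?_⟩
  intro het
  -- `⟨e, z ^ 2⟩` centralizes `z ^ 3`
  have hpg := sup_pgroup (zp_pgroup he3) (zp_pgroup hf3) hef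
  obtain ⟨i, hi⟩ := IsPGroup.iff_card.1 hpg
  have hle : (zpowers (e : G) ⊔ zpowers (z ^ 2) : Subgroup G) ≤ centralizer ({z ^ 3} : Set G) := by
    rw [sup_le_iff, zpowers_le, zpowers_le]
    exact ⟨mem_centralizer_singleton_iff.2 het, mem_centralizer_singleton_iff.2 htf.symm⟩
  have hid : 3 ^ i ∣ cent (z ^ 3) := by
    rw [← hi]
    exact card_dvd_of_le hle
  have hi1 : i ≤ 1 := by
    by_contra hlt
    have h3 := (pow_dvd_pow 3 (show 2 ≤ i by omega)).trans hid
    rcases cent_two ht2 with e1 | e1 <;> rw [e1] at h3 <;> norm_num at h3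
  apply hnot
  have h2 : zpowers (z ^ 2) = zpowers (e : G) ⊔ zpowers (z ^ 2) := by
    apply eq_of_le_of_card_ge le_sup_right
    rw [Nat.card_zpowers, hf3, hi]
    exact (Nat.pow_le_pow_right (by norm_num) hi1).trans_eq (pow_one 3)
  rw [h2]
  exact (le_sup_left : zpowers (e : G) ≤ _) (mem_zpowers _)

/-- there is no subgroup of order 12096 with a subgroup of index 2 containing an element of order 7 -/
theorem not_double {T N : Subgroup G} (hT : Nat.card T = 12096) (hN : Nat.card N = 6048) (hNT : N ≤ T)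
    (hidx : N.relIndex T = 2) {s : G} (hs : orderOf s = 7) (hsN : s ∈ N) : False := by
  have hr : Nat.Prime 7 := by norm_num
  have h49 : ¬ 7 ^ 2 ∣ Nat.card G := by rw [card_eq]; norm_num
  set B := normalizer ((zpowers s : Subgroup G) : Set G) with hB
  have hBT := card_norm_inf hr h49 sc hs (hNT hsN) (by rw [hT]; norm_num)
  have hBN := card_norm_inf hr h49 sc hs hsN (by rw [hN]; norm_num)
  have hBG := card_norm_inf hr h49 sc hs (mem_top s) (by rw [card_top, card_eq]; norm_num)
  rw [hT, ← hB] at hBT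
  rw [hN, ← hB] at hBN
  rw [card_top, card_eq, inf_top_eq, ← hB] at hBG
  replace hBT : Nat.card (B ⊓ T : Subgroup G) = 42 := hBT.trans (by norm_num)
  replace hBN : Nat.card (B ⊓ N : Subgroup G) = 21 := hBN.trans (by norm_num)
  replace hBG : Nat.card B = 42 := hBG.trans (by norm_num)
  have hBleT : B ≤ T := by
    have h1 : (B ⊓ T : Subgroup G) = B := by
      apply eq_of_le_of_card_ge inf_le_left
      rw [hBG, hBT]
    rw [← h1]
    exact inf_le_right
  -- the complement
  have hcj : IsConj (gw ly) s := H121.OZ.JTwo.conj_of_order 18 (by decide +kernel) y_order hs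
  obtain ⟨g, hg⟩ := isConj_iff.1 hcj
  set z := g * gw lz * g⁻¹ with hz
  have hzc : IsConj (gw lz) z := isConj_iff.2 ⟨g, rfl⟩
  have hzo : orderOf z = 6 := (order_conj hzc).symm.trans z_order
  have hz2 : z ^ 2 = g * gw (rL 4) * g⁻¹ := by rw [hz, conj_pow, z_sq]
  have hz36 : cent (z ^ 2) = 36 := by
    rw [← r_four.2, hz2]
    exact (cent_conj (isConj_iff.2 ⟨g, rfl⟩)).symm
  have hzs : z * s * z⁻¹ = s ^ 5 := by
    rw [← hg, hz, conj_pow, ← z_conj]
    group
  have hzB : z ∈ B := by
    have h1 : (zpowers s).map (MulAut.conj z).toMonoidHom = zpowers s := by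
      refine eq_of_le_of_card_ge ?_ (by rw [card_map_of_injective (MulAut.conj z).injective])
      rw [MonoidHom.map_zpowers, zpowers_le]
      change z * s * z⁻¹ ∈ _
      rw [hzs]
      exact pow_mem (mem_zpowers s) 5
    rw [hB, mem_normalizer_iff]
    intro x
    constructor
    · intro hx
      rw [← h1]
      exact ⟨x, hx, rfl⟩
    · intro hx
      rw [← h1] at hx
      obtain ⟨w, hw, hwx⟩ := hx
      have : w = x := (MulAut.conj z).injective hwx
      rwa [← this]
  have hzT := hBleT hzB
  obtain ⟨c, hcT, hc⟩ := exists_c (T := T) (by rw [hT]; norm_num) hzT hzo hz36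
  -- everything lies in `N`
  have hmul : ∀ a b : T, ((a * b : T) : G) ∈ N ↔ ((a : G) ∈ N ↔ (b : G) ∈ N) := by
    intro a b
    have h1 := Subgroup.mul_mem_iff_of_index_two (H := N.subgroupOf T) hidx (a := a) (b := b)
    simpa only [mem_subgroupOf] using h1
  have hmul' : ∀ a ∈ T, ∀ b ∈ T, (a * b ∈ N ↔ (a ∈ N ↔ b ∈ N)) := fun a ha b hb => hmul ⟨a, ha⟩ ⟨b, hb⟩
  have htT : z ^ 3 ∈ T := pow_mem hzT 3
  have h1T : c * z ^ 3 * c⁻¹ ∈ T := mul_mem (mul_mem hcT htT) (inv_mem hcT)
  have htN : z ^ 3 ∈ N := by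
    rw [hc]
    rw [hmul' _ (mul_mem (mul_mem hcT h1T) (inv_mem hcT)) _ (inv_mem h1T), hmul' _ (mul_mem hcT h1T) _ (inv_mem hcT),
      hmul' _ hcT _ h1T, inv_mem_iff, inv_mem_iff]
    tauto
  have hfN : z ^ 2 ∈ N := by
    rw [pow_two, hmul' _ hzT _ hzT]
  have hzN : z ∈ N := by
    have h1 : z = z ^ 3 * (z ^ 2)⁻¹ := by group
    rw [h1]
    exact mul_mem htN (inv_mem hfN)
  have h6 : 6 ∣ Nat.card (B ⊓ N : Subgroup G) := by
    rw [← hzo]
    exact Subgroup.orderOf_dvd_natCard _ (mem_inf.2 ⟨hzB, hzN⟩)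
  rw [hBN] at h6
  norm_num at h6

/-! ### the class numbers -/

theorem k_le_card {T : Type*} [Group T] [Finite T] : Nat.card (ConjClasses T) ≤ Nat.card T :=
  Nat.card_le_card_of_surjective ConjClasses.mk ConjClasses.mk_surjective

theorem fin_of {m k : ℕ} (M K : ℕ) (hm : m ≤ M) (hk : k ≤ K) (h : 2 * (M * K) ≤ 604800) : 2 * (m * k) ≤ 604800 :=
  (Nat.mul_le_mul_left 2 (Nat.mul_le_mul hm hk)).trans h

/-- subgroups of order prime to 7 containing the complement -/
theorem part_q (B : H940.Eng.Base) {T : Subgroup G} (h7 : ¬ 7 ∣ Nat.card T) (hf : ∃ f ∈ T, cent f = 36) :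
    2 * (Nat.card T * Nat.card (ConjClasses T)) ≤ 604800 := by
  obtain ⟨f, hfT, hf36⟩ := hf
  have hf3 := order_of_36 hf36
  have h3T : 3 ∣ Nat.card T := by
    rw [← hf3]
    exact Subgroup.orderOf_dvd_natCard T hfT
  have hne : T ≠ ⊥ := by
    rintro rfl
    rw [card_bot] at h3T
    omega
  have hd : Nat.card T ∣ 604800 := by rw [← card_eq]; exact card_subgroup_dvd_card T
  have hcases : Nat.card T ≤ 1490 ∨ Nat.card T = 1920 ∨ Nat.card T = 2160 ∨ Nat.card T = 2400 := by
    rcases bound B h7 hne with h | h | h | h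
    · left
      have key : ∀ m ∈ Finset.range 1681, 604800 % m = 0 → m % 7 ≠ 0 → m % 3 = 0 → m ≤ 1490 := by decide +kernel
      exact key _ (Finset.mem_range.2 (by omega)) (Nat.mod_eq_zero_of_dvd hd) (fun h => h7 (Nat.dvd_of_mod_eq_zero h))
        (Nat.mod_eq_zero_of_dvd h3T)
    · obtain ⟨q, hq⟩ := h
      rcases (show q = 0 ∨ q = 1 ∨ 2 ≤ q by omega) with rfl | rfl | h2
      · omega
      · right; right; left; omega
      · left
        have : Nat.card T * 2 ≤ Nat.card T * q := Nat.mul_le_mul_left _ h2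
        omega
    · obtain ⟨q, hq⟩ := h
      rcases (show q = 0 ∨ q = 1 ∨ 2 ≤ q by omega) with rfl | rfl | h2
      · omega
      · right; right; right; omega
      · left
        have : Nat.card T * 2 ≤ Nat.card T * q := Nat.mul_le_mul_left _ h2
        omega
    · obtain ⟨q, hq⟩ := h
      rcases (show q = 0 ∨ q = 1 ∨ 2 ≤ q by omega) with rfl | rfl | h2
      · omega
      · right; left; omega
      · left
        have : Nat.card T * 2 ≤ Nat.card T * q := Nat.mul_le_mul_left _ h2
        omega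
  rcases hcases with h | h | h | h
  · have hk := H757.S8.k_le T {3} (fun _ => 36) (by
      intro p hp
      rw [Finset.mem_singleton] at hp
      subst hp
      exact ⟨by norm_num, f, hfT, ⟨1, by rw [hf3, pow_one]⟩, hf36.le⟩)
    rw [Finset.sum_singleton, Finset.prod_singleton] at hk
    have h1 : Nat.card T / 3 ^ 2 ≤ 1490 / 3 ^ 2 := Nat.div_le_div_right h
    exact fin_of 1490 201 h (hk.trans (by norm_num at h1 ⊢; omega)) (by norm_num)
  all_goals
    have h5T : 5 ∣ Nat.card T := by rw [h]; norm_num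
  · obtain ⟨w, hwT, hw⟩ : ∃ w ∈ T, orderOf w = 5 := by
      have : Fact (Nat.Prime 5) := ⟨by norm_num⟩
      obtain ⟨y, hy⟩ := exists_prime_orderOf_dvd_card' 5 h5T
      exact ⟨y, y.2, by rw [orderOf_coe]; exact hy⟩
    have hk := H757.S8.k_le_gcd T {3, 5} (fun p => if p = 3 then 36 else 60) (by
      intro p hp
      rw [Finset.mem_insert, Finset.mem_singleton] at hp
      rcases hp with rfl | rfl
      · refine ⟨by norm_num, f, hfT, ⟨1, by rw [hf3, pow_one]⟩, ?_⟩
        rw [show Nat.card (centralizer ({f} : Set G)) = 36 from hf36, h]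
        norm_num
      · refine ⟨by norm_num, w, hwT, ⟨1, by rw [hw, pow_one]⟩, ?_⟩
        rcases cent_five hw with e | e
        · rw [show Nat.card (centralizer ({w} : Set G)) = 300 from e, h]
          norm_num
        · rw [show Nat.card (centralizer ({w} : Set G)) = 50 from e, h]
          norm_num)
    rw [Finset.sum_pair (by norm_num), Finset.prod_pair (by norm_num), h] at hk
    norm_num at hk
    exact fin_of 1920 104 h.le hk (by norm_num)
  · obtain ⟨w, hwT, hw⟩ : ∃ w ∈ T, orderOf w = 5 := by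
      have : Fact (Nat.Prime 5) := ⟨by norm_num⟩
      obtain ⟨y, hy⟩ := exists_prime_orderOf_dvd_card' 5 h5T
      exact ⟨y, y.2, by rw [orderOf_coe]; exact hy⟩
    have hk := H757.S8.k_le_gcd T {3, 5} (fun p => if p = 3 then 36 else 60) (by
      intro p hp
      rw [Finset.mem_insert, Finset.mem_singleton] at hp
      rcases hp with rfl | rfl
      · refine ⟨by norm_num, f, hfT, ⟨1, by rw [hf3, pow_one]⟩, ?_⟩
        rw [show Nat.card (centralizer ({f} : Set G)) = 36 from hf36, h]
        norm_num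
      · refine ⟨by norm_num, w, hwT, ⟨1, by rw [hw, pow_one]⟩, ?_⟩
        rcases cent_five hw with e | e
        · rw [show Nat.card (centralizer ({w} : Set G)) = 300 from e, h]
          norm_num
        · rw [show Nat.card (centralizer ({w} : Set G)) = 50 from e, h]
          norm_num)
    rw [Finset.sum_pair (by norm_num), Finset.prod_pair (by norm_num), h] at hk
    norm_num at hk
    exact fin_of 2160 105 h.le hk (by norm_num)
  · obtain ⟨w, hwT, hw, hw50⟩ := five_of_dvd (T := T) (by rw [h]; norm_num)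
    have hk := H757.S8.k_le T {3, 5} (fun p => if p = 3 then 36 else 50) (by
      intro p hp
      rw [Finset.mem_insert, Finset.mem_singleton] at hp
      rcases hp with rfl | rfl
      · refine ⟨by norm_num, f, hfT, ⟨1, by rw [hf3, pow_one]⟩, ?_⟩
        rw [if_pos rfl]
        exact hf36.le
      · refine ⟨by norm_num, w, hwT, ⟨1, by rw [hw, pow_one]⟩, ?_⟩
        rw [if_neg (by norm_num)]
        exact hw50.le)
    rw [Finset.sum_pair (by norm_num), Finset.prod_pair (by norm_num), h] at hk
    norm_num at hk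
    exact fin_of 2400 96 h.le hk (by norm_num)

theorem surv_eq : surv 604800 [(2, 7), (3, 3), (5, 2), (7, 1)] 7 [] =
    [.alt 7, .alt 8, .psl 3 2, .psl 4 2, .psl 3 4, .psl 2 8, .psl 2 7, .psu 3 3] := by decide +kernel

/-- the class number of a subgroup containing elements of order 7 -/
theorem k_seven {T : Subgroup G} {s : G} (hs : orderOf s = 7) (hsT : s ∈ T) :
    Nat.card (ConjClasses T) ≤ 7 + Nat.card T / 49 := by
  have hk := H757.S8.k_le T {7} (fun _ => 7) (by
    intro p hp
    rw [Finset.mem_singleton] at hp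
    subst hp
    exact ⟨by norm_num, s, hsT, ⟨1, by rw [hs, pow_one]⟩, (cent_seven hs).le⟩)
  rw [Finset.sum_singleton, Finset.prod_singleton] at hk
  norm_num at hk
  exact hk

theorem k_seven_three {T : Subgroup G} {s f : G} (hs : orderOf s = 7) (hsT : s ∈ T) (hf : cent f = 36) (hfT : f ∈ T) :
    Nat.card (ConjClasses T) ≤ 43 + Nat.card T / 441 := by
  have hk := H757.S8.k_le T {7, 3} (fun p => if p = 3 then 36 else 7) (by
    intro p hp
    rw [Finset.mem_insert, Finset.mem_singleton] at hp
    rcases hp with rfl | rfl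
    · refine ⟨by norm_num, s, hsT, ⟨1, by rw [hs, pow_one]⟩, ?_⟩
      rw [if_neg (by norm_num)]
      exact (cent_seven hs).le
    · refine ⟨by norm_num, f, hfT, ⟨1, by rw [order_of_36 hf, pow_one]⟩, ?_⟩
      rw [if_pos rfl]
      exact hf.le)
  rw [Finset.sum_pair (by norm_num), Finset.prod_pair (by norm_num)] at hk
  norm_num at hk
  exact hk

theorem k_seven_eight {T : Subgroup G} {s e : G} (hs : orderOf s = 7) (hsT : s ∈ T) (he : orderOf e = 8) (heT : e ∈ T) :
    Nat.card (ConjClasses T) ≤ 15 + Nat.card T / 196 := by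
  have hk := H757.S8.k_le T {7, 2} (fun p => if p = 2 then 8 else 7) (by
    intro p hp
    rw [Finset.mem_insert, Finset.mem_singleton] at hp
    rcases hp with rfl | rfl
    · refine ⟨by norm_num, s, hsT, ⟨1, by rw [hs, pow_one]⟩, ?_⟩
      rw [if_neg (by norm_num)]
      exact (cent_seven hs).le
    · refine ⟨by norm_num, e, heT, ⟨3, by rw [he]; norm_num⟩, ?_⟩
      rw [if_pos rfl]
      exact (cent_eight he).le)
  rw [Finset.sum_pair (by norm_num), Finset.prod_pair (by norm_num)] at hk
  norm_num at hk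
  exact hk

/-- subgroups of order divisible by 7 -/
theorem part_p (tab : OrderTable.{0}) (known : Known.{0}) {T : Subgroup G} (hT : T ≠ ⊤) (h7 : 7 ∣ Nat.card T) :
    2 * (Nat.card T * Nat.card (ConjClasses T)) ≤ 604800 := by
  have f7 : Fact (Nat.Prime 7) := ⟨by norm_num⟩
  obtain ⟨s, hsT, hs⟩ : ∃ s ∈ T, orderOf s = 7 := by
    obtain ⟨y, hy⟩ := exists_prime_orderOf_dvd_card' 7 h7
    exact ⟨y, y.2, by rw [orderOf_coe]; exact hy⟩
  have hr : Nat.Prime 7 := f7.out
  have h49 : ¬ 7 ^ 2 ∣ Nat.card G := by rw [card_eq]; norm_num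
  have hlb : Nat.card T * 32 ≤ 604800 := by
    rw [← card_eq, ← Subgroup.card_mul_index T]
    exact Nat.mul_le_mul_left _ (H715.Fpr.J2.lb isoG T hT)
  rcases cases (l := [(2, 7), (3, 3), (5, 2), (7, 1)]) tab known card_eq (by decide +kernel) hr (by norm_num) free hs hT hsT
    with h | ⟨N, h⟩
  · -- the normalizer
    have hBG := card_norm_inf hr h49 sc hs (mem_top s) (by rw [card_top, card_eq]; norm_num)
    rw [card_top, card_eq, inf_top_eq] at hBG
    norm_num at hBG
    have h1 : Nat.card T ≤ 42 := by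
      rw [← hBG]
      exact Subgroup.card_le_of_le h
    exact fin_of 42 42 h1 (k_le_card.trans h1) (by norm_num)
  · have hidx := (h.index_mul_dvd hr h49 (by rw [card_eq]; norm_num) sc hs).2
    rw [card_eq] at hidx
    have hcm := card_mul_relIndex h.le
    obtain ⟨g, hg, hreal, hord⟩ := h.real
    rw [surv_eq] at hg
    have hle : Nat.card T ≤ 18900 := by omega
    have hpos : 0 < N.relIndex T := Nat.pos_of_ne_zero (by
      intro h0
      rw [h0, mul_zero] at hcm
      have := Nat.card_pos (α := T)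
      omega)
    -- by the order of `N`
    have key : ∀ g ∈ ([.alt 7, .alt 8, .psl 3 2, .psl 4 2, .psl 3 4, .psl 2 8, .psl 2 7, .psu 3 3] : List Grp),
        ordN g = 2520 ∨ ordN g = 20160 ∨ ordN g = 168 ∨ ordN g = 504 ∨ (ordN g = 6048 ∧ g = .psu 3 3) := by
      decide +kernel
    rcases key g hg with h1 | h1 | h1 | h1 | ⟨h1, hgp⟩
    · rw [h1] at hord
      rw [hord] at hidx hcm
      norm_num at hidx
      have h2 := Nat.le_of_dvd (by norm_num) hidx
      have h3 : Nat.card T ≤ 5040 := by
        rw [← hcm]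
        exact Nat.mul_le_mul_left 2520 (show N.relIndex T ≤ 2 by omega)
      obtain ⟨f, hfT, hf⟩ := three_of_dvd (T := T) (by rw [← hcm]; exact Dvd.dvd.mul_right (by norm_num) _)
      have hk := k_seven_three hs hsT hf hfT
      have h4 : Nat.card T / 441 ≤ 5040 / 441 := Nat.div_le_div_right h3
      exact fin_of 5040 54 h3 (hk.trans (by norm_num at h4 ⊢; omega)) (by norm_num)
    · exfalso
      rw [h1] at hord
      rw [hord] at hcm
      have : 20160 * 1 ≤ 20160 * N.relIndex T := Nat.mul_le_mul_left _ hpos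
      omega
    · rw [h1] at hord
      rw [hord] at hidx hcm
      norm_num at hidx
      have h2 := Nat.le_of_dvd (by norm_num) hidx
      have h3 : Nat.card T ≤ 336 := by
        rw [← hcm]
        exact Nat.mul_le_mul_left 168 (show N.relIndex T ≤ 2 by omega)
      exact fin_of 336 336 h3 (k_le_card.trans h3) (by norm_num)
    · rw [h1] at hord
      rw [hord] at hidx hcm
      norm_num at hidx
      have h2 := Nat.le_of_dvd (by norm_num) hidx
      have h3 : Nat.card T ≤ 1512 := by
        rw [← hcm]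
        exact Nat.mul_le_mul_left 504 (show N.relIndex T ≤ 3 by omega)
      have hk := k_seven hs hsT
      have h4 : Nat.card T / 49 ≤ 1512 / 49 := Nat.div_le_div_right h3
      exact fin_of 1512 37 h3 (hk.trans (by norm_num at h4 ⊢; omega)) (by norm_num)
    · rw [h1] at hord
      rw [hord] at hidx hcm
      norm_num at hidx
      have h2 := Nat.le_of_dvd (by norm_num) hidx
      rcases (show N.relIndex T = 1 ∨ N.relIndex T = 2 by omega) with h3 | h3
      · rw [h3, mul_one] at hcm
        subst hgp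
        obtain ⟨F, _, _, hF, he⟩ := hreal
        obtain ⟨x, hx⟩ := exists_eight (F := F) (by rw [hF]; norm_num) he
        have hk := k_seven_eight hs hsT (e := (x : G)) (by rw [orderOf_coe]; exact hx) (h.le x.2)
        rw [← hcm] at hk
        norm_num at hk
        exact fin_of 6048 45 hcm.symm.le hk (by norm_num)
      · exfalso
        rw [h3] at hcm
        exact not_double (T := T) (N := N) (by rw [← hcm]) hord h.le h3 hs h.mem

/-- the row on 100 points -/
theorem frob_G (B : H940.Eng.Base) (D : Set ℕ) : H704.S8.FrobRow 2 D G := by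
  have known : Known.{0} := fun X _ _ _ => B.known X inferInstance
  refine H50.S8.frobRow_of_elts (p := 7) (q := 6) (k := 5) (by norm_num) (by norm_num) y_order z_order z_conj ?_ ?_
  · intro i hi0 hi6
    have key : ∀ i ∈ Finset.range 6, 0 < i → ¬ 5 ^ i ≡ 1 [MOD 7] := by decide
    exact key i (Finset.mem_range.2 hi6) hi0
  · intro T hT hyz _
    rw [card_eq]
    by_cases h7 : 7 ∣ Nat.card T
    · exact part_p B.table known hT h7
    · rcases hyz with h | h
      · exfalso
        apply h7
        rw [← y_order]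
        exact Subgroup.orderOf_dvd_natCard T h
      · exact part_q B h7 ⟨gw lz ^ 2, pow_mem h 2, by rw [z_sq]; exact r_four.2⟩

/-- **The row FROB of `J₂`.** -/
theorem frob_j2 (B : H940.Eng.Base) {X : Type*} [Group X] (h : Spor.IsoJ2 X) (D : Set ℕ) : H704.S8.FrobRow 2 D X := by
  obtain ⟨e⟩ := h
  obtain ⟨f⟩ := isoG
  exact H757.S8.frobRow_congr (e.trans f.symm) (frob_G B D)

end Cfsg.Agent.H923.S8.J2
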