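import Cfsg.Agent.H121.OZ.JTwo
import Cfsg.Agent.J2Type.ThreeF
import Cfsg.Agent.KFacts.J2.Facts

/-!
# S4908, FROB for `J₂`: classes, Sylow subgroups (helper923)

`G` is `J₂` on 100 points.

* `cent_two`, ...: the centralizers of the elements of prime order;
* `three`: a 3-subgroup of order at least 9 contains an element of order 3 with centralizer of order 36; `not_both`: two
  commuting elements of order 3 with centralizers of order 1080 generate the same subgroup;
* `five`: a subgroup of order divisible by 25 contains an element of order 5 with centralizer of order 50;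
* `two_mul`, `two_three`: commuting involutions with centralizers of order 1920.
-/

set_option autoImplicit false
set_option maxRecDepth 100000

namespace Cfsg.Agent.H923.S8.J2

open Subgroup Cfsg
open Cfsg.Agent.H1 Cfsg.Agent.SporadicA.J2Hundred Cfsg.Agent.J2.HundredGens Cfsg.Agent.H1.J2Cls
  Cfsg.Agent.H1.J2Cover Cfsg.Agent.H121.OZ.JTwoCls Cfsg.Agent.H121.OZ.JTwo
open Cfsg.Agent.H604.OZ (cent)

theorem card_eq : Nat.card G = 604800 := card_G

theorem cent_two {a : G} (h : orderOf a = 2) : cent a = 1920 ∨ cent a = 240 := by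
  obtain ⟨j, -, h1, h2⟩ := type a
  have key : ∀ j : Fin 21, ov j = 2 → cv j = 1920 ∨ cv j = 240 := by decide +kernel
  rw [h2]
  exact key j (h1.symm.trans h)

theorem cent_three {a : G} (h : orderOf a = 3) : cent a = 1080 ∨ cent a = 36 := by
  obtain ⟨j, -, h1, h2⟩ := type a
  have key : ∀ j : Fin 21, ov j = 3 → cv j = 1080 ∨ cv j = 36 := by decide +kernel
  rw [h2]
  exact key j (h1.symm.trans h)

theorem cent_five {a : G} (h : orderOf a = 5) : cent a = 300 ∨ cent a = 50 := by
  obtain ⟨j, -, h1, h2⟩ := type a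
  have key : ∀ j : Fin 21, ov j = 5 → cv j = 300 ∨ cv j = 50 := by decide +kernel
  rw [h2]
  exact key j (h1.symm.trans h)

theorem cent_seven {a : G} (h : orderOf a = 7) : cent a = 7 := cent_of_order 18 (by decide +kernel) h

theorem cent_eight {a : G} (h : orderOf a = 8) : cent a = 8 := cent_of_order 5 (by decide +kernel) h

theorem order_of_36 {a : G} (h : cent a = 36) : orderOf a = 3 := by
  obtain ⟨j, -, h1, h2⟩ := type a
  have key : ∀ j : Fin 21, cv j = 36 → ov j = 3 := by decide +kernel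
  rw [h1]
  exact key j (h2.symm.trans h)

theorem conj_two {a b : G} (ha : orderOf a = 2) (hb : orderOf b = 2) (ha' : cent a = 1920) (hb' : cent b = 1920) :
    IsConj a b :=
  conj_of 1 (by decide +kernel) ha ha' hb hb'

theorem cent_conj {a b : G} (h : IsConj a b) : cent a = cent b := H672.OZ.cent_eq_of_conj h

theorem order_conj {a b : G} (h : IsConj a b) : orderOf a = orderOf b := H604.OZ.orderOf_eq_of_conj h

theorem isoG : Spor.IsoJ2 G := by
  obtain ⟨e⟩ := J2_iso Cfsg.Agent.S1619.result.2.2.2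
  exact ⟨e.symm⟩

/-- the centralizer order divides -/
theorem cent_dvd_of_le {T : Subgroup G} {a : G} (h : ∀ x ∈ T, x * a = a * x) : Nat.card T ∣ cent a :=
  card_dvd_of_le fun x hx => mem_centralizer_singleton_iff.2 (h x hx)

/-! ### the prime 3 -/

/-- the Sylow 3-subgroup -/
theorem sylow_three : ∃ (P : Sylow 3 G) (d : G), orderOf d = 3 ∧ ∀ x ∈ (P : Subgroup G), x ∉ zpowers d → cent x = 36 := by
  obtain ⟨t, u, Q, v, ρ, D⟩ := KFacts.J2.Facts.exists_dat_of isoG
  have h := D.F
  obtain ⟨f, U, V, H0, F⟩ := J2Type.CentU.main h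
  obtain ⟨d, hd, hdV, hdH⟩ := J2Type.ThreeA.exists_d h F
  obtain ⟨P, hPd, hfP, hdP⟩ := J2Type.ThreeF.exists_sylow h F hd hdH
  obtain ⟨-, hcl⟩ := J2Type.ThreeF.card_normalizer h F hd hdV hdH hPd hfP hdP
  have h36 := J2Type.ThreeD.card_centralizer_f h F hd hdH
  exact ⟨P, d, hd, fun x hx hxd => (cent_conj (hcl x hx hxd)).symm.trans h36⟩

theorem syl {R : Subgroup G} (hR : IsPGroup 3 R) : ∃ d : G, orderOf d = 3 ∧ ∀ x ∈ R, x ∉ zpowers d → cent x = 36 := by
  obtain ⟨P, d, hd, hP⟩ := sylow_three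
  have : Fact (Nat.Prime 3) := ⟨by norm_num⟩
  obtain ⟨Q, hQ⟩ := hR.exists_le_sylow
  obtain ⟨g, hg⟩ := MulAction.exists_smul_eq G P Q
  refine ⟨g * d * g⁻¹, ?_, ?_⟩
  · rw [← hd]
    exact (order_conj (isConj_iff.2 ⟨g, rfl⟩)).symm
  · intro x hx hxd
    have h1 : x ∈ ((g • P : Sylow 3 G) : Subgroup G) := by rw [hg]; exact hQ hx
    rw [Sylow.coe_subgroup_smul, mem_pointwise_smul_iff_inv_smul_mem] at h1
    have h2 : (MulAut.conj g)⁻¹ • x = g⁻¹ * x * g := by
      rw [← map_inv]
      show g⁻¹ * x * g⁻¹⁻¹ = _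
      rw [inv_inv]
    rw [h2] at h1
    have h3 := hP _ h1 (by
      intro h4
      apply hxd
      obtain ⟨k, hk⟩ := mem_zpowers_iff.1 h4
      refine mem_zpowers_iff.2 ⟨k, ?_⟩
      rw [conj_zpow, hk]
      group)
    rw [← h3]
    exact cent_conj (isConj_iff.2 ⟨g⁻¹, by group⟩)

theorem three_of_card {R : Subgroup G} (hR : IsPGroup 3 R) (h9 : 3 < Nat.card R) : ∃ x ∈ R, cent x = 36 := by
  obtain ⟨d, hd, h⟩ := syl hR
  by_contra hcon
  push Not at hcon
  have hle : R ≤ zpowers d := by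
    intro x hx
    by_contra hxd
    exact hcon x hx (h x hx hxd)
  have h1 := Subgroup.card_le_of_le hle
  rw [Nat.card_zpowers, hd] at h1
  omega

theorem three_of_dvd {T : Subgroup G} (h9 : 9 ∣ Nat.card T) : ∃ x ∈ T, cent x = 36 := by
  have : Fact (Nat.Prime 3) := ⟨by norm_num⟩
  obtain ⟨P⟩ : Nonempty (Sylow 3 T) := inferInstance
  have h1 : 3 ^ 2 ∣ Nat.card P := P.pow_dvd_card_of_pow_dvd_card (by norm_num; exact h9)
  have h2 : Nat.card ((P : Subgroup T).map T.subtype) = Nat.card P := card_map_of_injective T.subtype_injective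
  obtain ⟨x, hx, hx36⟩ := three_of_card (R := (P : Subgroup T).map T.subtype) (P.isPGroup'.map _) (by
    rw [h2]
    have := Nat.le_of_dvd Nat.card_pos h1
    omega)
  obtain ⟨y, -, rfl⟩ := hx
  exact ⟨_, y.2, hx36⟩

theorem sup_pgroup {p : ℕ} {a b : G} (ha : IsPGroup p (zpowers a)) (hb : IsPGroup p (zpowers b)) (hab : a * b = b * a) :
    IsPGroup p (zpowers a ⊔ zpowers b : Subgroup G) := by
  refine IsPGroup.to_sup_of_normal_right' ha hb ?_
  rw [zpowers_le, mem_normalizer_iff]
  intro x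
  have key : ∀ c : G, (∀ x ∈ zpowers b, c * x * c⁻¹ ∈ zpowers b) ↔ c * b * c⁻¹ ∈ zpowers b := by
    intro c
    refine ⟨fun h => h b (mem_zpowers b), fun h x hx => ?_⟩
    obtain ⟨k, rfl⟩ := mem_zpowers_iff.1 hx
    rw [← conj_zpow]
    exact zpow_mem h k
  constructor
  · exact fun h => (key a).2 (by rw [hab, mul_inv_cancel_right]; exact mem_zpowers b) x h
  · intro h
    have h1 := (key a⁻¹).2 (by
      have : a⁻¹ * b * a⁻¹⁻¹ = b := by rw [inv_inv, mul_assoc, ← hab, inv_mul_cancel_left]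
      rw [this]; exact mem_zpowers b) _ h
    have h2 : a⁻¹ * (a * x * a⁻¹) * a⁻¹⁻¹ = x := by group
    rwa [h2] at h1

theorem zp_pgroup {p : ℕ} {a : G} (ha : orderOf a = p) : IsPGroup p (zpowers a) :=
  IsPGroup.of_card (n := 1) (by rw [Nat.card_zpowers, ha, pow_one])

theorem not_both {a b : G} (ha : orderOf a = 3) (hb : orderOf b = 3) (hab : a * b = b * a) (ha' : cent a ≠ 36)
    (hb' : cent b ≠ 36) : b ∈ zpowers a := by
  obtain ⟨d, hd, h⟩ := syl (sup_pgroup (zp_pgroup ha) (zp_pgroup hb) hab)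
  have h1 : a ∈ zpowers d := by
    by_contra hcon
    exact ha' (h a ((le_sup_left : zpowers a ≤ _) (mem_zpowers a)) hcon)
  have h2 : b ∈ zpowers d := by
    by_contra hcon
    exact hb' (h b ((le_sup_right : zpowers b ≤ _) (mem_zpowers b)) hcon)
  have h3 : zpowers a = zpowers d := by
    apply eq_of_le_of_card_ge
    · rwa [zpowers_le]
    · rw [Nat.card_zpowers, Nat.card_zpowers, ha, hd]
  rw [h3]
  exact h2

/-! ### the prime 5 -/

theorem five_of_dvd {T : Subgroup G} (h25 : 25 ∣ Nat.card T) : ∃ x ∈ T, orderOf x = 5 ∧ cent x = 50 := by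
  have : Fact (Nat.Prime 5) := ⟨by norm_num⟩
  obtain ⟨hr, hr'⟩ := rep 19
  set r := gw (rL (19 : Fin 21)) with hrdef
  have hr5 : orderOf r = 5 := hr.trans (by decide +kernel)
  have hr50 : cent r = 50 := hr'.trans (by decide +kernel)
  -- a Sylow 5-subgroup of the centralizer is one of the group
  obtain ⟨S⟩ : Nonempty (Sylow 5 (centralizer ({r} : Set G))) := inferInstance
  have hS25 : 5 ^ 2 ∣ Nat.card S := S.pow_dvd_card_of_pow_dvd_card (by
    have : Nat.card (centralizer ({r} : Set G)) = 50 := hr50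
    rw [this]; norm_num)
  have hrC : r ∈ centralizer ({r} : Set G) := mem_centralizer_singleton_iff.2 rfl
  -- `r` lies in `S`
  have hrS : (⟨r, hrC⟩ : centralizer ({r} : Set G)) ∈ (S : Subgroup (centralizer ({r} : Set G))) := by
    have hn : (zpowers (⟨r, hrC⟩ : centralizer ({r} : Set G))).Normal := by
      refine ⟨fun n hn g => ?_⟩
      obtain ⟨k, rfl⟩ := mem_zpowers_iff.1 hn
      have h1 : g * ⟨r, hrC⟩ * g⁻¹ = (⟨r, hrC⟩ : centralizer ({r} : Set G)) := by
        apply Subtype.ext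
        have h2 := mem_centralizer_singleton_iff.1 g.2
        show (g : G) * r * (g : G)⁻¹ = r
        rw [h2, mul_inv_cancel_right]
      rw [← conj_zpow, h1]
      exact zpow_mem (mem_zpowers _) k
    have hp : IsPGroup 5 (zpowers (⟨r, hrC⟩ : centralizer ({r} : Set G))) :=
      IsPGroup.of_card (n := 1) (by rw [Nat.card_zpowers, Subgroup.orderOf_mk, hr5, pow_one])
    exact hp.le_sylow_of_normal S (mem_zpowers _)
  set S' : Subgroup G := (S : Subgroup (centralizer ({r} : Set G))).map (centralizer ({r} : Set G)).subtype with hS'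
  have hS'c : Nat.card S' = Nat.card S := card_map_of_injective (Subtype.val_injective)
  have hS'p : IsPGroup 5 S' := S.isPGroup'.map _
  have hrS' : r ∈ S' := ⟨⟨r, hrC⟩, hrS, rfl⟩
  obtain ⟨W, hW⟩ := hS'p.exists_le_sylow
  obtain ⟨P⟩ : Nonempty (Sylow 5 T) := inferInstance
  have hP25 : 5 ^ 2 ∣ Nat.card P := P.pow_dvd_card_of_pow_dvd_card (by norm_num; exact h25)
  set P' : Subgroup G := (P : Subgroup T).map T.subtype with hP'
  have hP'c : Nat.card P' = Nat.card P := card_map_of_injective T.subtype_injective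
  obtain ⟨V, hV⟩ := (P.isPGroup'.map T.subtype : IsPGroup 5 P').exists_le_sylow
  have hsz : ∀ Y : Sylow 5 G, Nat.card (Y : Subgroup G) ≤ 25 := by
    intro Y
    obtain ⟨k, hk⟩ := IsPGroup.iff_card.1 Y.2
    have h1 : 5 ^ k ∣ 604800 := by rw [← hk, ← card_eq]; exact card_subgroup_dvd_card _
    rw [hk]
    by_contra hlt
    have h2 : 3 ≤ k := by
      by_contra h3
      have : k ≤ 2 := by omega
      have := Nat.pow_le_pow_right (show 0 < 5 by norm_num) this
      omega
    have h3 := (pow_dvd_pow 5 h2).trans h1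
    norm_num at h3
  have hVP : P' = (V : Subgroup G) := by
    apply eq_of_le_of_card_ge hV
    rw [hP'c]
    have := Nat.le_of_dvd Nat.card_pos hP25
    have := hsz V
    omega
  obtain ⟨g, hg⟩ := MulAction.exists_smul_eq G W V
  have h1 : g * r * g⁻¹ ∈ (V : Subgroup G) := by
    rw [← hg]
    exact Subgroup.smul_mem_pointwise_smul r (MulAut.conj g) (W : Subgroup G) (hW hrS')
  rw [← hVP] at h1
  obtain ⟨y, -, hy⟩ := h1
  refine ⟨g * r * g⁻¹, ?_, ?_, ?_⟩
  · rw [← hy]
    exact y.2
  · rw [← hr5]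
    exact (order_conj (isConj_iff.2 ⟨g, rfl⟩)).symm
  · rw [← hr50]
    exact (cent_conj (isConj_iff.2 ⟨g, rfl⟩)).symm

/-! ### involutions -/

theorem eq_inv_of_two {a : G} (h : orderOf a = 2) : a * a = 1 := by
  rw [← pow_two, ← h, pow_orderOf_eq_one]

open Cfsg.Agent.J2Type.Model Cfsg.Agent.J2Type.SPFacts Cfsg.Agent.J2Type.CStruct Cfsg.Agent.J3Type.OneClass in
/-- three commuting involutions with centralizers of order 1920 -/
theorem two_three {a b c : G} (ha : orderOf a = 2) (hb : orderOf b = 2) (hc : orderOf c = 2) (ha' : cent a = 1920)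
    (hb' : cent b = 1920) (hc' : cent c = 1920) (hab : a * b = b * a) (hac : a * c = c * a) (hbc : b * c = c * b)
    (h1 : a ≠ b) (h2 : a ≠ c) (h3 : b ≠ c) : c = a * b := by
  obtain ⟨t, u, Q, v, ρ, D⟩ := KFacts.J2.Facts.exists_dat_of isoG
  have ht' : cent t = 1920 := D.F.cardC
  obtain ⟨g, hg⟩ := isConj_iff.1 (conj_two ha D.F.hz ha' ht')
  have main : ∀ x : G, orderOf x = 2 → cent x = 1920 → a * x = x * a → a ≠ x →
      ∃ (α : ZMod 2) (i : Fin 5) (hx : g * x * g⁻¹ ∈ centralizer ({t} : Set G)),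
        (⟨g * x * g⁻¹, hx⟩ : centralizer ({t} : Set G)) = zp (zc t) α * v i := by
    intro x hx hx' hax hne
    have hxc : IsConj t (g * x * g⁻¹) :=
      (conj_two D.F.hz hx ht' hx').trans (isConj_iff.2 ⟨g, rfl⟩)
    have hmem : g * x * g⁻¹ ∈ centralizer ({t} : Set G) := by
      rw [mem_centralizer_singleton_iff, ← hg]
      calc g * x * g⁻¹ * (g * a * g⁻¹) = g * (x * a) * g⁻¹ := by group
        _ = g * (a * x) * g⁻¹ := by rw [hax]
        _ = g * a * g⁻¹ * (g * x * g⁻¹) := by group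
    have hQ := D.mem_Q_of_isConj (x := ⟨g * x * g⁻¹, hmem⟩) hxc
    rcases invol_Q D.M hQ (Subtype.ext (by
        show g * x * g⁻¹ * (g * x * g⁻¹) = 1
        calc g * x * g⁻¹ * (g * x * g⁻¹) = g * (x * x) * g⁻¹ := by group
          _ = 1 := by rw [eq_inv_of_two hx]; group)) (fun h => by
        have h4 : g * x * g⁻¹ = 1 := congrArg Subtype.val h
        have h5 : x = 1 := by
          calc x = g⁻¹ * (g * x * g⁻¹) * g := by group
            _ = 1 := by rw [h4]; group
        rw [h5, orderOf_one] at hx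
        omega) with h4 | ⟨α, i, h4⟩
    · exfalso
      have h5 : g * x * g⁻¹ = t := congrArg Subtype.val h4
      rw [← hg] at h5
      exact hne ((mul_left_cancel (mul_right_cancel h5)).symm)
    · exact ⟨α, i, hmem, h4⟩
  obtain ⟨α, i, hbm, hbe⟩ := main b hb hb' hab h1
  obtain ⟨β, j, hcm, hce⟩ := main c hc hc' hac h2
  have hij : i = j := by
    by_contra hne
    have h4 : (zp (zc t) α * v i) * (zp (zc t) β * v j) =
        (zp (zc t) β * v j) * (zp (zc t) α * v i) := by
      rw [← hbe, ← hce]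
      apply Subtype.ext
      show g * b * g⁻¹ * (g * c * g⁻¹) = g * c * g⁻¹ * (g * b * g⁻¹)
      calc g * b * g⁻¹ * (g * c * g⁻¹) = g * (b * c) * g⁻¹ := by group
        _ = g * (c * b) * g⁻¹ := by rw [hbc]
        _ = g * c * g⁻¹ * (g * b * g⁻¹) := by group
    rw [comm_zp_mul D.M, eq_comm, comm_zp_mul D.M] at h4
    have h5 := D.M.v_anti i j hne
    rw [h4] at h5
    exact D.M.z_ne (mul_eq_right.1 h5.symm)
  subst hij
  have key : ∀ γ : ZMod 2, γ = 0 ∨ γ = 1 := by decide
  have hbv := congrArg Subtype.val hbe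
  have hcv := congrArg Subtype.val hce
  have hne : α ≠ β := by
    rintro rfl
    exact h3 (mul_left_cancel (mul_right_cancel (hbv.trans hcv.symm)))
  have hz0 : zp (zc t) 0 = 1 := zp_zero _
  have hz1 : zp (zc t) 1 = zc t := zp_one _
  have htt := D.tt
  have fin : g * c * g⁻¹ = t * (g * b * g⁻¹) := by
    rcases key α with rfl | rfl <;> rcases key β with rfl | rfl
    · exact absurd rfl hne
    · rw [hz0, one_mul] at hbv
      rw [hz1] at hcv
      change g * b * g⁻¹ = (v i : G) at hbv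
      change g * c * g⁻¹ = t * (v i : G) at hcv
      rw [hcv, hbv]
    · rw [hz0, one_mul] at hcv
      rw [hz1] at hbv
      change g * b * g⁻¹ = t * (v i : G) at hbv
      change g * c * g⁻¹ = (v i : G) at hcv
      rw [hcv, hbv, ← mul_assoc, htt, one_mul]
    · exact absurd rfl hne
  rw [← hg] at fin
  calc c = g⁻¹ * (g * c * g⁻¹) * g := by group
    _ = g⁻¹ * (g * a * g⁻¹ * (g * b * g⁻¹)) * g := by rw [fin]
    _ = a * b := by group

end Cfsg.Agent.H923.S8.J2
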