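import Cfsg.Agent.H923.S8.J2Cls
import Cfsg.Agent.H631.OneClass
import Cfsg.Agent.H390.Five
import Cfsg.Agent.H417.EP.ASix
import Cfsg.Agent.H940.EngData
import Cfsg.Agent.S0494
import Cfsg.Agent.S0497

/-!
# S4908, FROB for `J₂`: the subgroups of order prime to 7 (helper923)
-/

set_option autoImplicit false
set_option maxRecDepth 100000

namespace Cfsg.Agent.H923.S8.J2

open Subgroup Cfsg
open Cfsg.Agent.SporadicA.J2Hundred
open Cfsg.Agent.H604.OZ (cent)
open Cfsg.Agent.H940.Eng Cfsg.Agent.H940.Eng.D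

/-- orbit and stabilizer -/
theorem orb (T : Subgroup G) (A : Set G) (hA : ∀ g ∈ T, ∀ y ∈ A, g * y * g⁻¹ ∈ A) {x : G} (hx : x ∈ A) :
    ∃ o, 0 < o ∧ o ≤ Nat.card A ∧ Nat.card T = o * Nat.card (T ⊓ centralizer ({x} : Set G) : Subgroup G) := by
  refine ⟨Nat.card {y : G // ∃ n ∈ T, n * x * n⁻¹ = y}, ?_, ?_, ?_⟩
  · have : Nonempty {y : G // ∃ n ∈ T, n * x * n⁻¹ = y} := ⟨⟨x, 1, T.one_mem, by group⟩⟩
    exact Nat.card_pos
  · refine Nat.card_le_card_of_injective (fun y => (⟨y.1, ?_⟩ : A)) ?_
    · obtain ⟨n, hn, hy⟩ := y.2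
      rw [← hy]
      exact hA n hn x hx
    · intro y z hyz
      exact Subtype.ext (congrArg (fun w : A => (w : G)) hyz)
  · exact (J2Type.SylowFive.card_orbit T x).symm

theorem inf_dvd (T : Subgroup G) (x : G) : Nat.card (T ⊓ centralizer ({x} : Set G) : Subgroup G) ∣ cent x :=
  card_dvd_of_le inf_le_right

/-- the nontrivial elements -/
theorem card_ne_one (M : Subgroup G) : Nat.card {y : G | y ∈ M ∧ y ≠ 1} = Nat.card M - 1 := by
  have h1 : {y : G | y ∈ M ∧ y ≠ 1} = (M : Set G) \ {1} := by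
    ext y
    simp
  rw [h1, Nat.card_coe_set_eq, Set.ncard_sdiff_singleton_of_mem M.one_mem]
  rfl

theorem inv_ne_one {T M : Subgroup G} (hn : ∀ g ∈ T, ∀ y ∈ M, g * y * g⁻¹ ∈ M) : ∀ g ∈ T, ∀ y ∈ {y : G | y ∈ M ∧ y ≠ 1},
    g * y * g⁻¹ ∈ {y : G | y ∈ M ∧ y ≠ 1} := by
  rintro g hg y ⟨hy, hy1⟩
  exact ⟨hn g hg y hy, fun h => hy1 (conj_eq_one_iff.1 h)⟩

/-- `M` is a nontrivial elementary abelian `p`-group normalized by `T` -/
structure El (p : ℕ) (T M : Subgroup G) : Prop where
  ne : M ≠ ⊥
  grp : IsPGroup p M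
  exp : ∀ x ∈ M, x ^ p = 1
  comm : ∀ x ∈ M, ∀ y ∈ M, x * y = y * x
  norm : ∀ g ∈ T, ∀ y ∈ M, g * y * g⁻¹ ∈ M

theorem El.order {p : ℕ} {T M : Subgroup G} (h : El p T M) (hp : p.Prime) {x : G} (hx : x ∈ M) (h1 : x ≠ 1) :
    orderOf x = p := by
  have : Fact p.Prime := ⟨hp⟩
  exact orderOf_eq_prime (h.exp x hx) h1

theorem El.exists_ne {p : ℕ} {T M : Subgroup G} (h : El p T M) : ∃ x ∈ M, x ≠ 1 := by
  obtain ⟨x, hx⟩ := Subgroup.ne_bot_iff_exists_ne_one.1 h.ne
  exact ⟨x, x.2, fun h => hx (Subtype.ext h)⟩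

theorem El.card {p : ℕ} {T M : Subgroup G} (h : El p T M) (hp : p.Prime) : ∃ k, 0 < k ∧ Nat.card M = p ^ k ∧ p ^ k ∣ 604800 := by
  have : Fact p.Prime := ⟨hp⟩
  obtain ⟨k, hk⟩ := IsPGroup.iff_card.1 h.grp
  refine ⟨k, ?_, hk, ?_⟩
  · rcases Nat.eq_zero_or_pos k with rfl | h0
    · exact absurd (card_eq_one.1 (hk.trans (pow_zero p))) h.ne
    · exact h0
  · rw [← hk, ← card_eq]
    exact card_subgroup_dvd_card _

theorem five {T M : Subgroup G} (h : El 5 T M) : Nat.card T ≤ 1200 := by
  obtain ⟨k, hk0, hk, hkd⟩ := h.card (by norm_num)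
  have hk2 : k ≤ 2 := by
    by_contra hlt
    have h3 := (pow_dvd_pow 5 (show 3 ≤ k by omega)).trans hkd
    norm_num at h3
  rcases (show k = 1 ∨ k = 2 by omega) with rfl | rfl
  · obtain ⟨x, hx, hx1⟩ := h.exists_ne
    obtain ⟨o, -, ho, hT⟩ := orb T _ (inv_ne_one h.norm) (x := x) ⟨hx, hx1⟩
    rw [card_ne_one, hk] at ho
    have h1 := Nat.le_of_dvd (by rcases cent_five (h.order (by norm_num) hx hx1) with e | e <;> rw [e] <;> norm_num)
      (inf_dvd T x)
    have h2 : cent x ≤ 300 := by rcases cent_five (h.order (by norm_num) hx hx1) with e | e <;> rw [e] <;> norm_num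
    rw [hT]
    calc _ ≤ 4 * 300 := Nat.mul_le_mul (by omega) (by omega)
      _ = 1200 := by norm_num
  · obtain ⟨x, hx, hx5, hx50⟩ := five_of_dvd (T := M) (by rw [hk]; norm_num)
    have hx1 : x ≠ 1 := by
      rintro rfl
      rw [orderOf_one] at hx5
      omega
    obtain ⟨o, -, ho, hT⟩ := orb T _ (inv_ne_one h.norm) (x := x) ⟨hx, hx1⟩
    rw [card_ne_one, hk] at ho
    have h1 := Nat.le_of_dvd (by rw [hx50]; norm_num) (inf_dvd T x)
    rw [hx50] at h1
    rw [hT]
    calc _ ≤ 24 * 50 := Nat.mul_le_mul (by omega) h1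
      _ = 1200 := by norm_num

theorem three {T M : Subgroup G} (h : El 3 T M) : Nat.card T ≤ 936 ∨ Nat.card T ∣ 2160 := by
  obtain ⟨k, hk0, hk, hkd⟩ := h.card (by norm_num)
  have hk2 : k ≤ 3 := by
    by_contra hlt
    have h3 := (pow_dvd_pow 3 (show 4 ≤ k by omega)).trans hkd
    norm_num at h3
  rcases (show k = 1 ∨ 2 ≤ k by omega) with rfl | h2
  · right
    obtain ⟨x, hx, hx1⟩ := h.exists_ne
    obtain ⟨o, ho0, ho, hT⟩ := orb T _ (inv_ne_one h.norm) (x := x) ⟨hx, hx1⟩
    rw [card_ne_one, hk] at ho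
    have h1 : Nat.card (T ⊓ centralizer ({x} : Set G) : Subgroup G) ∣ 1080 := by
      refine (inf_dvd T x).trans ?_
      rcases cent_three (h.order (by norm_num) hx hx1) with e | e <;> rw [e] <;> norm_num
    rw [hT]
    rcases (show o = 1 ∨ o = 2 by omega) with rfl | rfl
    · exact (Nat.mul_dvd_mul_left 1 h1).trans (by norm_num)
    · exact (Nat.mul_dvd_mul_left 2 h1).trans (by norm_num)
  · left
    obtain ⟨x, hx, hx36⟩ := three_of_card h.grp (by
      rw [hk]
      have := Nat.pow_le_pow_right (show 0 < 3 by norm_num) h2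
      omega)
    have hx1 : x ≠ 1 := by
      rintro rfl
      have := order_of_36 hx36
      rw [orderOf_one] at this
      omega
    obtain ⟨o, -, ho, hT⟩ := orb T _ (inv_ne_one h.norm) (x := x) ⟨hx, hx1⟩
    rw [card_ne_one, hk] at ho
    have h1 := Nat.le_of_dvd (by rw [hx36]; norm_num) (inf_dvd T x)
    rw [hx36] at h1
    have h3 := Nat.pow_le_pow_right (show 0 < 3 by norm_num) hk2
    rw [hT]
    calc _ ≤ 26 * 36 := Nat.mul_le_mul (by omega) h1
      _ = 936 := by norm_num

/-- an element of order 5 does not commute with two commuting involutions, one of them 2-central -/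
theorem no_five {a b y : G} (ha : orderOf a = 2) (hb : orderOf b = 2) (ha' : cent a = 1920) (hab : a * b = b * a)
    (hne : a ≠ b) (hy : orderOf y = 5) (hya : y * a = a * y) (hyb : y * b = b * y) : False := by
  obtain ⟨t, u, Q, v, ρ, D⟩ := KFacts.J2.Facts.exists_dat_of isoG
  have ht' : cent t = 1920 := D.F.cardC
  obtain ⟨g, hg⟩ := isConj_iff.1 (conj_two ha D.F.hz ha' ht')
  have hc : IsConj y (g * y * g⁻¹) := isConj_iff.2 ⟨g, rfl⟩
  have h3 := J2Type.ThreeD.not_three_dvd D.F (w0 := g * y * g⁻¹) ((order_conj hc).symm.trans hy) (by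
    rw [← hg]
    calc g * y * g⁻¹ * (g * a * g⁻¹) = g * (y * a) * g⁻¹ := by group
      _ = g * (a * y) * g⁻¹ := by rw [hya]
      _ = g * a * g⁻¹ * (g * y * g⁻¹) := by group)
  have h4 : ¬ 3 ∣ cent y := by rw [cent_conj hc]; exact h3
  have h50 : cent y = 50 := by
    rcases cent_five hy with e | e
    · rw [e] at h4
      exact absurd (by norm_num) h4
    · exact e
  have h2a : IsPGroup 2 (zpowers a) := zp_pgroup ha
  have h2b : IsPGroup 2 (zpowers b) := zp_pgroup hb
  have hp := sup_pgroup h2a h2b hab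
  have : Fact (Nat.Prime 2) := ⟨Nat.prime_two⟩
  obtain ⟨k, hk⟩ := IsPGroup.iff_card.1 hp
  have hle : (zpowers a ⊔ zpowers b : Subgroup G) ≤ centralizer ({y} : Set G) := by
    rw [sup_le_iff, zpowers_le, zpowers_le]
    exact ⟨mem_centralizer_singleton_iff.2 hya.symm, mem_centralizer_singleton_iff.2 hyb.symm⟩
  have hd : 2 ^ k ∣ 50 := by
    rw [← hk, ← h50]
    exact card_dvd_of_le hle
  have hk1 : k ≤ 1 := by
    by_contra hlt
    have h5 := (pow_dvd_pow 2 (show 2 ≤ k by omega)).trans hd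
    norm_num at h5
  have h6 : Nat.card (zpowers a ⊔ zpowers b : Subgroup G) ≤ 2 := by
    rw [hk]
    exact Nat.pow_le_pow_right (by norm_num) hk1
  have h7 : zpowers a = zpowers a ⊔ zpowers b := by
    apply eq_of_le_of_card_ge le_sup_left
    rw [Nat.card_zpowers, ha]
    exact h6
  have h8 : b ∈ zpowers a := by
    rw [h7]
    exact (le_sup_right : zpowers b ≤ _) (mem_zpowers b)
  obtain ⟨n, hn, hn'⟩ := (mem_zpowers_iff_mem_range_orderOf.1 h8 |> Finset.mem_image.1)
  rw [ha] at hn
  have hn2 : n = 0 ∨ n = 1 := by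
    have := Finset.mem_range.1 hn
    omega
  rcases hn2 with rfl | rfl
  · have h9 : b = 1 := by simpa using hn'.symm
    rw [h9, orderOf_one] at hb
    omega
  · exact hne (by simpa using hn')

theorem two_a {T M : Subgroup G} (h : El 2 T M) {a : G} (haM : a ∈ M) (ha' : cent a = 1920) :
    Nat.card T ∣ 1920 ∨ Nat.card T ∣ 1152 := by
  have ha1 : a ≠ 1 := by
    rintro rfl
    have h1 := H121.OZ.JTwoCls.cent_one
    rw [ha'] at h1
    omega
  have ha := h.order Nat.prime_two haM ha1
  set A : Set G := {y : G | y ∈ M ∧ y ≠ 1 ∧ cent y = 1920} with hAdef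
  have hA : ∀ g ∈ T, ∀ y ∈ A, g * y * g⁻¹ ∈ A := by
    rintro g hg y ⟨hy, hy1, hy2⟩
    refine ⟨h.norm g hg y hy, fun h => hy1 (conj_eq_one_iff.1 h), ?_⟩
    rw [← hy2]
    exact (cent_conj (isConj_iff.2 ⟨g, rfl⟩)).symm
  have haA : a ∈ A := ⟨haM, ha1, ha'⟩
  obtain ⟨o, ho0, ho, hT⟩ := orb T A hA haA
  by_cases hone : ∀ b ∈ A, b = a
  · left
    have h1 : Nat.card A ≤ 1 := by
      rw [Nat.card_coe_set_eq]
      exact (Set.ncard_le_ncard (fun b hb => hone b hb) (Set.finite_singleton a)).trans_eq (Set.ncard_singleton a)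
    have h2 : o = 1 := by omega
    rw [hT, h2, one_mul, ← ha']
    exact inf_dvd T a
  · right
    push Not at hone
    obtain ⟨b, hbA, hba⟩ := hone
    obtain ⟨hbM, hb1, hb'⟩ := hbA
    have hb := h.order Nat.prime_two hbM hb1
    have hab := h.comm a haM b hbM
    have hsub : A ⊆ {a, b, a * b} := by
      rintro c ⟨hcM, hc1, hc'⟩
      rw [Set.mem_insert_iff, Set.mem_insert_iff, Set.mem_singleton_iff]
      by_contra hcon
      push Not at hcon
      exact hcon.2.2 (two_three ha hb (h.order Nat.prime_two hcM hc1) ha' hb' hc' hab (h.comm a haM c hcM)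
        (h.comm b hbM c hcM) hba.symm hcon.1.symm hcon.2.1.symm)
    have h3 : o ≤ 3 := by
      refine ho.trans ?_
      rw [Nat.card_coe_set_eq]
      refine (Set.ncard_le_ncard hsub (Set.toFinite _)).trans ?_
      refine (Set.ncard_insert_le _ _).trans ?_
      have := Set.ncard_insert_le b ({a * b} : Set G)
      rw [Set.ncard_singleton] at this
      omega
    set K1 : Subgroup G := T ⊓ centralizer ({a} : Set G) with hK1
    have hA2 : ∀ g ∈ K1, ∀ y ∈ A \ {a}, g * y * g⁻¹ ∈ A \ {a} := by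
      rintro g hg y ⟨hy, hya⟩
      obtain ⟨hg1, hg2⟩ := mem_inf.1 hg
      refine ⟨hA g hg1 y hy, fun h4 => hya ?_⟩
      rw [Set.mem_singleton_iff] at h4 ⊢
      have h5 := mem_centralizer_singleton_iff.1 hg2
      calc y = g⁻¹ * (g * y * g⁻¹) * g := by group
        _ = g⁻¹ * (a * g) := by rw [h4]; group
        _ = a := by rw [← h5]; group
    obtain ⟨o2, ho20, ho2, hT2⟩ := orb K1 (A \ {a}) hA2 (x := b) ⟨⟨hbM, hb1, hb'⟩, hba⟩
    have h4 : o2 ≤ 2 := by
      refine ho2.trans ?_
      have hsub2 : A \ {a} ⊆ {b, a * b} := by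
        rintro c ⟨hc, hca⟩
        rcases hsub hc with h5 | h5
        · exact absurd h5 hca
        · exact h5
      rw [Nat.card_coe_set_eq]
      refine (Set.ncard_le_ncard hsub2 (Set.toFinite _)).trans ?_
      have := Set.ncard_insert_le b ({a * b} : Set G)
      rw [Set.ncard_singleton] at this
      omega
    set K2 : Subgroup G := K1 ⊓ centralizer ({b} : Set G) with hK2
    have hK2d : Nat.card K2 ∣ 384 := by
      have h5 : Nat.card K2 ∣ 1920 := by
        rw [← ha']
        exact (card_dvd_of_le inf_le_left).trans (inf_dvd T a)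
      have h6 : ¬ 5 ∣ Nat.card K2 := by
        intro h7
        have : Fact (Nat.Prime 5) := ⟨by norm_num⟩
        obtain ⟨y, hy⟩ := exists_prime_orderOf_dvd_card' 5 h7
        have hy5 : orderOf (y : G) = 5 := by rw [orderOf_coe]; exact hy
        obtain ⟨h8, h9⟩ := mem_inf.1 y.2
        exact no_five ha hb ha' hab hba.symm hy5 (mem_centralizer_singleton_iff.1 (mem_inf.1 h8).2)
          (mem_centralizer_singleton_iff.1 h9)
      have e : 1920 = 5 * 384 := by norm_num
      rw [e] at h5
      exact (((Nat.Prime.coprime_iff_not_dvd (by norm_num)).2 h6).symm).dvd_of_dvd_mul_left h5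
    have h5 : Nat.card T ∣ 4608 := by
      rw [hT, hT2]
      rcases (show o = 1 ∨ o = 2 ∨ o = 3 by omega) with rfl | rfl | rfl <;>
        rcases (show o2 = 1 ∨ o2 = 2 by omega) with rfl | rfl <;>
        exact (Nat.mul_dvd_mul_left _ (Nat.mul_dvd_mul_left _ hK2d)).trans (by norm_num)
    have h6 : Nat.card T ∣ 604800 := by rw [← card_eq]; exact card_subgroup_dvd_card _
    have h7 := Nat.dvd_gcd h5 h6
    have e : Nat.gcd 4608 604800 = 1152 := by norm_num
    rwa [e] at h7

theorem two_b {T M : Subgroup G} (h : El 2 T M) (hno : ∀ a ∈ M, cent a ≠ 1920) : Nat.card T ≤ 1680 := by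
  have : Fact (Nat.Prime 2) := ⟨Nat.prime_two⟩
  obtain ⟨x, hx, hx1⟩ := h.exists_ne
  have hx2 := h.order Nat.prime_two hx hx1
  have hx240 : cent x = 240 := (cent_two hx2).resolve_left (hno x hx)
  obtain ⟨k, hk0, hk, hkd⟩ := h.card Nat.prime_two
  have hMd : 2 ^ k ∣ 240 := by
    rw [← hk, ← hx240]
    exact cent_dvd_of_le fun y hy => h.comm y hy x hx
  have hk4 : k ≤ 4 := by
    by_contra hlt
    have h3 := (pow_dvd_pow 2 (show 5 ≤ k by omega)).trans hMd
    norm_num at h3
  have hk3 : k ≤ 3 := by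
    by_contra hlt
    have hk16 : k = 4 := by omega
    -- a Sylow subgroup and its centre
    obtain ⟨S, hS⟩ := h.grp.exists_le_sylow
    have hSc : 2 ^ 7 ∣ Nat.card (S : Subgroup G) := S.pow_dvd_card_of_pow_dvd_card (by rw [card_eq]; norm_num)
    have hnt : Nontrivial (S : Subgroup G) := by
      rw [← Finite.one_lt_card_iff_nontrivial]
      have := Nat.le_of_dvd Nat.card_pos hSc
      omega
    have hc := S.isPGroup'.center_nontrivial
    have hcp : IsPGroup 2 (center (S : Subgroup G)) := S.isPGroup'.to_subgroup _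
    obtain ⟨j, hj⟩ := IsPGroup.iff_card.1 hcp
    have hj0 : j ≠ 0 := by
      rintro rfl
      have := Finite.one_lt_card_iff_nontrivial.2 hc
      rw [hj] at this
      norm_num at this
    obtain ⟨c, hc2⟩ := exists_prime_orderOf_dvd_card' (G := center (S : Subgroup G)) 2 (by
      rw [hj]
      exact dvd_pow_self 2 hj0)
    have hcG : orderOf (((c : (S : Subgroup G)) : G)) = 2 := by rw [orderOf_coe, orderOf_coe]; exact hc2
    set e : G := ((c : (S : Subgroup G)) : G) with he
    have hce : ∀ y ∈ (S : Subgroup G), y * e = e * y := by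
      intro y hy
      have h1 := mem_center_iff.1 c.2 ⟨y, hy⟩
      exact congrArg Subtype.val h1
    have he' : cent e = 1920 := by
      rcases cent_two hcG with h1 | h1
      · exact h1
      · exfalso
        have h2 : 2 ^ 7 ∣ cent e := hSc.trans (cent_dvd_of_le hce)
        rw [h1] at h2
        norm_num at h2
    -- `e` centralizes `M`
    have hpg : IsPGroup 2 (M ⊔ zpowers e : Subgroup G) := by
      refine S.isPGroup'.to_le ?_
      rw [sup_le_iff, zpowers_le]
      exact ⟨hS, (c : (S : Subgroup G)).2⟩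
    have hle : (M ⊔ zpowers e : Subgroup G) ≤ centralizer ({x} : Set G) := by
      rw [sup_le_iff, zpowers_le]
      exact ⟨fun y hy => mem_centralizer_singleton_iff.2 (h.comm y hy x hx),
        mem_centralizer_singleton_iff.2 (hce x (hS hx)).symm⟩
    obtain ⟨i, hi⟩ := IsPGroup.iff_card.1 hpg
    have hid : 2 ^ i ∣ 240 := by
      rw [← hi, ← hx240]
      exact card_dvd_of_le hle
    have hi4 : i ≤ 4 := by
      by_contra hlt
      have h3 := (pow_dvd_pow 2 (show 5 ≤ i by omega)).trans hid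
      norm_num at h3
    have heq : M = M ⊔ zpowers e := by
      apply eq_of_le_of_card_ge le_sup_left
      rw [hi, hk, hk16]
      exact Nat.pow_le_pow_right (by norm_num) hi4
    have heM : e ∈ M := by
      rw [heq]
      exact (le_sup_right : zpowers e ≤ _) (mem_zpowers e)
    exact hno e heM he'
  obtain ⟨o, ho0, ho, hT⟩ := orb T _ (inv_ne_one h.norm) (x := x) ⟨hx, hx1⟩
  rw [card_ne_one, hk] at ho
  have h1 := Nat.le_of_dvd (by rw [hx240]; norm_num) (inf_dvd T x)
  rw [hx240] at h1
  have h3 := Nat.pow_le_pow_right (show 0 < 2 by norm_num) hk3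
  rw [hT]
  calc _ ≤ 7 * 240 := Nat.mul_le_mul (by omega) h1
    _ = 1680 := by norm_num

/-! ### the nonabelian case -/

/-- the data of a normal simple subgroup -/
theorem card_split {T : Type*} [Group T] [Finite T] (N : Subgroup T) [N.Normal] :
    Nat.card T ∣ Nat.card (MulAut.conjNormal (H := N)).ker * Nat.card (MulAut N) := by
  set φ : T →* MulAut N := MulAut.conjNormal (H := N) with hφ
  have h1 : Nat.card T = Nat.card φ.ker * Nat.card φ.range := by
    rw [← Subgroup.index_ker, Subgroup.card_mul_index]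
  rw [h1]
  exact Nat.mul_dvd_mul_left _ (card_subgroup_dvd_card _)

theorem ker_comm {T : Type*} [Group T] {N : Subgroup T} [N.Normal] {c n : T}
    (hc : c ∈ (MulAut.conjNormal (H := N) : T →* MulAut N).ker) (hn : n ∈ N) : c * n = n * c := by
  have h1 := congrArg (fun f : MulAut N => ((f ⟨n, hn⟩ : N) : T)) (MonoidHom.mem_ker.1 hc)
  simp only [MulAut.conjNormal_apply, MulAut.one_apply] at h1
  rw [← h1]
  simp only [inv_mul_cancel_right]
  rw [h1]

theorem aut_sixty {N : Type*} [Group N] [Finite N] (hs : IsSimpleGroup N) (h : Nat.card N = 60) :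
    Nat.card (MulAut N) = 120 := by
  obtain ⟨e⟩ := Cfsg.Agent.S0494.result (G := N) h
  rw [Nat.card_congr (MulAut.congr e).toEquiv]
  exact Cfsg.Agent.H390.card_aut_alt_five

theorem aut_six {N : Type*} [Group N] [Finite N] (hs : IsSimpleGroup N) (h : Nat.card N = 360) :
    Nat.card (MulAut N) = 1440 := by
  obtain ⟨e⟩ := Cfsg.Agent.S0497.result (G := N) h
  rw [Nat.card_congr (MulAut.congr e).toEquiv]
  exact Cfsg.Agent.H417.EP.Six.card_aut

section nonab

variable {T : Subgroup G} {N : Subgroup T} [hN : N.Normal]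

theorem elt {K : Subgroup T} {p : ℕ} (hp : p.Prime) (h : p ∣ Nat.card K) : ∃ x ∈ K, orderOf ((x : T) : G) = p := by
  have : Fact p.Prime := ⟨hp⟩
  obtain ⟨y, hy⟩ := exists_prime_orderOf_dvd_card' p h
  exact ⟨y, y.2, by rw [orderOf_coe, orderOf_coe]; exact hy⟩

theorem ker_dvd {K : Subgroup T} {x : T} (h : ∀ c ∈ K, c * x = x * c) : Nat.card K ∣ cent (x : G) := by
  rw [← card_map_of_injective (K := K) T.subtype_injective]
  apply cent_dvd_of_le
  rintro _ ⟨c, hc, rfl⟩
  exact congrArg Subtype.val (h c hc)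

theorem ne36 {a b : G} (hb : orderOf b = 5) (hab : a * b = b * a) : cent a ≠ 36 := by
  intro h
  have h1 : b ∈ centralizer ({a} : Set G) := mem_centralizer_singleton_iff.2 hab.symm
  have h2 := Subgroup.orderOf_dvd_natCard _ h1
  rw [hb, show Nat.card (centralizer ({a} : Set G)) = 36 from h] at h2
  norm_num at h2

theorem simple_sixty (hs : IsSimpleGroup N) (hc : ∀ z ∈ N, (∀ t ∈ N, Commute z t) → z = 1) (h60 : Nat.card N = 60) :
    Nat.card T ∣ 2400 ∨ Nat.card T ∣ 1440 := by
  set K : Subgroup T := (MulAut.conjNormal (H := N) : T →* MulAut N).ker with hK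
  have hd := card_split N
  rw [aut_sixty hs h60] at hd
  obtain ⟨w, hwN, hw⟩ := elt (K := N) (p := 5) (by norm_num) (by rw [h60]; norm_num)
  obtain ⟨f, hfN, hf⟩ := elt (K := N) (p := 3) (by norm_num) (by rw [h60]; norm_num)
  have hKw := ker_dvd (K := K) (x := w) fun c hc => ker_comm hc hwN
  have hKf := ker_dvd (K := K) (x := f) fun c hc => ker_comm hc hfN
  by_cases h3 : 3 ∣ Nat.card K
  · right
    obtain ⟨c, hcK, hco⟩ := elt (K := K) (p := 3) (by norm_num) h3
    have hcw : (c : G) * w = w * c := congrArg Subtype.val (ker_comm hcK hwN)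
    have hcf : (c : G) * f = f * c := congrArg Subtype.val (ker_comm hcK hfN)
    have hc36 := ne36 hw hcw
    have hf36 : cent (f : G) = 36 := by
      by_contra hne
      have h4 := not_both hco hf hcf hc36 hne
      have h5 : f ∈ K := by
        obtain ⟨k, hk⟩ := mem_zpowers_iff.1 h4
        have h6 : c ^ k = f := Subtype.ext (by rw [Subgroup.coe_zpow]; exact hk)
        rw [← h6]
        exact zpow_mem hcK k
      have h7 := hc f hfN fun t ht => ker_comm h5 ht
      rw [h7] at hf
      simp at hf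
    rw [hf36] at hKf
    have h8 : Nat.card K ∣ 12 := by
      rcases cent_five hw with e | e
      · rw [e] at hKw
        exact (Nat.dvd_gcd hKw hKf).trans (by norm_num)
      · rw [e] at hKw
        exact (Nat.dvd_gcd hKw hKf).trans (by norm_num)
    exact hd.trans ((Nat.mul_dvd_mul_right h8 120).trans (by norm_num))
  · left
    have h4 : Nat.card K ∣ 60 := by
      rcases cent_five hw with e | e <;> rw [e] at hKw <;> rcases cent_three hf with e' | e' <;> rw [e'] at hKf <;>
        exact (Nat.dvd_gcd hKw hKf).trans (by norm_num)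
    have h5 : Nat.card K ∣ 20 := by
      have e : 60 = 3 * 20 := by norm_num
      rw [e] at h4
      exact (((Nat.Prime.coprime_iff_not_dvd (by norm_num)).2 h3).symm).dvd_of_dvd_mul_left h4
    exact hd.trans ((Nat.mul_dvd_mul_right h5 120).trans (by norm_num))

theorem simple_six (hs : IsSimpleGroup N) (hc : ∀ z ∈ N, (∀ t ∈ N, Commute z t) → z = 1) (h360 : Nat.card N = 360) :
    Nat.card T ∣ 1440 := by
  set K : Subgroup T := (MulAut.conjNormal (H := N) : T →* MulAut N).ker with hK
  have hd := card_split N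
  rw [aut_six hs h360] at hd
  have hNG : Nat.card (N.map T.subtype) = 360 := by rw [card_map_of_injective T.subtype_injective, h360]
  have hNc : ∀ c : T, c ∈ K → 360 ∣ cent (c : G) := by
    intro c hcK
    rw [← hNG]
    apply cent_dvd_of_le
    rintro _ ⟨n, hn, rfl⟩
    exact congrArg Subtype.val (ker_comm hcK hn).symm
  obtain ⟨w, hwN, hw⟩ := elt (K := N) (p := 5) (by norm_num) (by rw [h360]; norm_num)
  have hKw := ker_dvd (K := K) (x := w) fun c hc => ker_comm hc hwN
  -- the Sylow 3-subgroup of `N`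
  have f3 : Fact (Nat.Prime 3) := ⟨by norm_num⟩
  obtain ⟨P⟩ : Nonempty (Sylow 3 (N.map T.subtype : Subgroup G)) := inferInstance
  have hPc : Nat.card P = 3 ^ 2 := by
    have h1 : 3 ^ 2 ∣ Nat.card P := P.pow_dvd_card_of_pow_dvd_card (by rw [hNG]; norm_num)
    obtain ⟨k, hk⟩ := IsPGroup.iff_card.1 P.isPGroup'
    have h2 : 3 ^ k ∣ 360 := by rw [← hk, ← hNG]; exact card_subgroup_dvd_card _
    rw [hk] at h1 ⊢
    have h3 := (Nat.pow_dvd_pow_iff_le_right (by norm_num)).1 h1
    have h4 : k ≤ 2 := by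
      by_contra hlt
      have h5 := (pow_dvd_pow 3 (show 3 ≤ k by omega)).trans h2
      norm_num at h5
    rw [show k = 2 by omega]
  set P' : Subgroup G := (P : Subgroup (N.map T.subtype : Subgroup G)).map (N.map T.subtype).subtype with hP'
  have hP'c : Nat.card P' = 9 := by
    rw [hP', card_map_of_injective (Subtype.val_injective), hPc]
    norm_num
  have hP'p : IsPGroup 3 P' := P.isPGroup'.map _
  have hP'N : P' ≤ N.map T.subtype := by
    rintro _ ⟨y, -, rfl⟩
    exact y.2
  have hcomm : ∀ a ∈ P', ∀ b ∈ P', a * b = b * a := by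
    intro a ha b hb
    have h1 := (IsPGroup.isMulCommutative_of_card_eq_prime_sq (p := 3) (G := P') (by rw [hP'c]; norm_num)).is_comm.comm ⟨a, ha⟩ ⟨b, hb⟩
    exact congrArg Subtype.val h1
  obtain ⟨f, hfP, hf36⟩ := three_of_card hP'p (by rw [hP'c]; norm_num)
  obtain ⟨f', hf'N, hf'⟩ := hP'N hfP
  have hff : ((f' : T) : G) = f := hf'
  have hKf := ker_dvd (K := K) (x := f') fun c hc => ker_comm hc hf'N
  rw [hff, hf36] at hKf
  have h12 : Nat.card K ∣ 12 := by
    rcases cent_five hw with e | e <;> rw [e] at hKw <;> exact (Nat.dvd_gcd hKw hKf).trans (by norm_num)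
  have h2 : ¬ 2 ∣ Nat.card K := by
    intro h2
    obtain ⟨t, htK, ht⟩ := elt (K := K) Nat.prime_two h2
    have h3 := hNc t htK
    rcases cent_two ht with e | e <;> rw [e] at h3 <;> norm_num at h3
  have h3 : ¬ 3 ∣ Nat.card K := by
    intro h3
    obtain ⟨c, hcK, hco⟩ := elt (K := K) (p := 3) (by norm_num) h3
    have hcP : ∀ y ∈ P', (c : G) * y = y * c := by
      intro y hy
      obtain ⟨y', hy'N, rfl⟩ := hP'N hy
      exact congrArg Subtype.val (ker_comm hcK hy'N)
    have hpg : IsPGroup 3 (zpowers (c : G) ⊔ P' : Subgroup G) := by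
      refine IsPGroup.to_sup_of_normal_right' (zp_pgroup hco) hP'p ?_
      rw [zpowers_le, mem_normalizer_iff]
      intro y
      constructor
      · intro hy
        rw [hcP y hy, mul_inv_cancel_right]
        exact hy
      · intro hy
        have h4 : y = (c : G)⁻¹ * ((c : G) * y * (c : G)⁻¹) * c := by group
        rw [h4, mul_assoc, ← hcP _ hy, inv_mul_cancel_left]
        exact hy
    have hle : (zpowers (c : G) ⊔ P' : Subgroup G) ≤ centralizer ({f} : Set G) := by
      rw [sup_le_iff, zpowers_le]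
      exact ⟨mem_centralizer_singleton_iff.2 (hcP f hfP), fun y hy => mem_centralizer_singleton_iff.2 (hcomm y hy f hfP)⟩
    obtain ⟨i, hi⟩ := IsPGroup.iff_card.1 hpg
    have hid : 3 ^ i ∣ 36 := by
      rw [← hi, ← hf36]
      exact card_dvd_of_le hle
    have hi2 : i ≤ 2 := by
      by_contra hlt
      have h5 := (pow_dvd_pow 3 (show 3 ≤ i by omega)).trans hid
      norm_num at h5
    have heq : P' = zpowers (c : G) ⊔ P' := by
      apply eq_of_le_of_card_ge le_sup_right
      rw [hi, hP'c]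
      exact Nat.pow_le_pow_right (by norm_num) hi2
    have hcP' : (c : G) ∈ P' := by
      rw [heq]
      exact (le_sup_left : zpowers (c : G) ≤ _) (mem_zpowers _)
    obtain ⟨c', hc'N, hc'⟩ := hP'N hcP'
    have h6 : c' = c := Subtype.ext hc'
    rw [h6] at hc'N
    have h7 := hc c hc'N fun t ht => ker_comm hcK ht
    rw [h7] at hco
    simp at hco
  have h1 : Nat.card K = 1 := by
    have h4 : Nat.card K ≤ 12 := Nat.le_of_dvd (by norm_num) h12
    have h5 : 0 < Nat.card K := Nat.card_pos
    generalize Nat.card K = k at h12 h2 h3 h4 h5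
    interval_cases k <;> omega
  rw [h1, one_mul] at hd
  exact hd

end nonab

/-- **The subgroups of order prime to 7.** -/
theorem bound (B : Base) {T : Subgroup G} (h7 : ¬ 7 ∣ Nat.card T) (h1 : T ≠ ⊥) :
    Nat.card T ≤ 1680 ∨ Nat.card T ∣ 2160 ∨ Nat.card T ∣ 2400 ∨ Nat.card T ∣ 1920 := by
  have hnt : Nontrivial T := (Subgroup.nontrivial_iff_ne_bot T).2 h1
  obtain ⟨N, hN, hN0, hmin⟩ := Lib.SubnormalJoin.exists_minimal_normal T
  by_cases hab : ∀ x ∈ N, ∀ y ∈ N, Commute x y
  · obtain ⟨p, hp, hpg, hexp⟩ := Lib.MinNormalNonabelian.abelian_structure N hN0 hmin hab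
    have hEl : El p T (N.map T.subtype) := {
      ne := fun h => hN0 ((Subgroup.map_eq_bot_iff_of_injective N T.subtype_injective).1 h)
      grp := hpg.map _
      exp := by
        rintro _ ⟨x, hx, rfl⟩
        rw [← map_pow, hexp x hx, map_one]
      comm := by
        rintro _ ⟨x, hx, rfl⟩ _ ⟨y, hy, rfl⟩
        exact congrArg Subtype.val (hab x hx y hy)
      norm := by
        rintro g hg _ ⟨y, hy, rfl⟩
        exact ⟨⟨g, hg⟩ * y * ⟨g, hg⟩⁻¹, hN.conj_mem y hy _, rfl⟩ }
    obtain ⟨k, hk0, hk, hkd⟩ := hEl.card hp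
    have hpd : p ∣ 604800 := (dvd_pow_self p hk0.ne').trans hkd
    have hp7 : p ≠ 7 := by
      rintro rfl
      apply h7
      refine (dvd_pow_self 7 hk0.ne').trans ?_
      rw [← hk, card_map_of_injective T.subtype_injective]
      exact card_subgroup_dvd_card _
    have hpc : p = 2 ∨ p = 3 ∨ p = 5 := by
      have h2 : p ∣ 2 ^ 7 * (3 ^ 3 * (5 ^ 2 * 7)) := by
        have e : 2 ^ 7 * (3 ^ 3 * (5 ^ 2 * 7)) = 604800 := by norm_num
        rw [e]; exact hpd
      rcases hp.dvd_mul.1 h2 with h3 | h3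
      · exact Or.inl ((Nat.prime_dvd_prime_iff_eq hp (by norm_num)).1 (hp.dvd_of_dvd_pow h3))
      · rcases hp.dvd_mul.1 h3 with h3 | h3
        · exact Or.inr (Or.inl ((Nat.prime_dvd_prime_iff_eq hp (by norm_num)).1 (hp.dvd_of_dvd_pow h3)))
        · rcases hp.dvd_mul.1 h3 with h3 | h3
          · exact Or.inr (Or.inr ((Nat.prime_dvd_prime_iff_eq hp (by norm_num)).1 (hp.dvd_of_dvd_pow h3)))
          · exact absurd ((Nat.prime_dvd_prime_iff_eq hp (by norm_num)).1 h3) hp7
    rcases hpc with rfl | rfl | rfl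
    · by_cases ha : ∃ a ∈ N.map T.subtype, cent a = 1920
      · obtain ⟨a, haM, ha'⟩ := ha
        rcases two_a hEl haM ha' with h2 | h2
        · exact Or.inr (Or.inr (Or.inr h2))
        · left
          have := Nat.le_of_dvd (by norm_num) h2
          omega
      · push Not at ha
        exact Or.inl (two_b hEl ha)
    · rcases three hEl with h2 | h2
      · left; omega
      · exact Or.inr (Or.inl h2)
    · left
      have := five hEl
      omega
  · obtain ⟨⟨S, hS⟩, -, hsup, hsim, hcen, hconj⟩ := Lib.MinNormalNonabelian.nonabelian_structure N hmin hab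
    have hSs := hsim S hS
    have hSna : ¬ ∀ a b : S, a * b = b * a := by
      intro hcomm
      obtain ⟨x, hx⟩ := exists_ne (1 : S)
      apply hx
      apply Subtype.ext
      exact hcen S hS x x.2 fun t ht => congrArg Subtype.val (hcomm x ⟨t, ht⟩)
    have hSd : Nat.card S ∣ n_j2 := by
      have e : n_j2 = Nat.card G := card_eq.symm
      rw [e]
      exact (card_subgroup_dvd_card S).trans (card_subgroup_dvd_card T)
    have hord := ords_j2 B S hSs hSna hSd
    have hS7 : ¬ 7 ∣ Nat.card S := fun h => h7 (h.trans (card_subgroup_dvd_card S))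
    have hS : S ∈ Lib.MinNormalNonabelian.minSet N := hS
    have hcard : Nat.card S = 60 ∨ Nat.card S = 360 := by
      unfold o_j2 at hord
      simp only [List.mem_cons, List.not_mem_nil, or_false] at hord
      rcases hord with h | h | h | h | h | h | h | h
      · exact Or.inl h
      · rw [h] at hS7; norm_num at hS7
      · exact Or.inr h
      · rw [h] at hS7; norm_num at hS7
      · rw [h] at hS7; norm_num at hS7
      · rw [h] at hS7; norm_num at hS7
      · rw [h] at hS7; norm_num at hS7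
      · rw [h] at hS7; norm_num at hS7
    have h5S : 5 ∣ Nat.card S := by rcases hcard with h | h <;> rw [h] <;> norm_num
    have h3S : 3 ∣ Nat.card S := by rcases hcard with h | h <;> rw [h] <;> norm_num
    have huniq : ∀ S' ∈ Lib.MinNormalNonabelian.minSet N, S' = S := by
      intro S' hS'
      by_contra hne
      obtain ⟨hbot, hcomm⟩ := H631.commute_minSet hS hS' (Ne.symm hne)
      have hc' : Nat.card S' = Nat.card S := by
        obtain ⟨g, rfl⟩ := hconj S hS S' hS'
        exact card_map_of_injective (MulAut.conj g).injective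
      obtain ⟨x, hxS, hx⟩ := elt (K := S) (p := 3) (by norm_num) h3S
      obtain ⟨w, hwS, hw⟩ := elt (K := S) (p := 5) (by norm_num) h5S
      obtain ⟨y, hyS, hy⟩ := elt (K := S') (p := 3) (by norm_num) (by rw [hc']; exact h3S)
      obtain ⟨w', hw'S, hw'⟩ := elt (K := S') (p := 5) (by norm_num) (by rw [hc']; exact h5S)
      have e1 : (x : G) * w' = w' * x := congrArg Subtype.val (hcomm x hxS w' hw'S)
      have e2 : (y : G) * w = w * y := congrArg Subtype.val (hcomm w hwS y hyS).symm
      have e3 : (x : G) * y = y * x := congrArg Subtype.val (hcomm x hxS y hyS)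
      have h4 := not_both hx hy e3 (ne36 hw' e1) (ne36 hw e2)
      have h5 : y ∈ S := by
        obtain ⟨k, hk⟩ := mem_zpowers_iff.1 h4
        have h6 : x ^ k = y := Subtype.ext (by rw [Subgroup.coe_zpow]; exact hk)
        rw [← h6]
        exact zpow_mem hxS k
      have h6 : y ∈ S ⊓ S' := ⟨h5, hyS⟩
      rw [hbot, mem_bot] at h6
      rw [h6] at hy
      simp at hy
    have hSN : S = N := by
      have h2 : Lib.MinNormalNonabelian.minSet N = {S} := by
        ext S'
        exact ⟨fun h => huniq S' h, fun h => by rw [Set.mem_singleton_iff.1 h]; exact hS⟩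
      rw [h2, sSup_singleton] at hsup
      exact hsup
    subst hSN
    rcases hcard with h | h
    · rcases simple_sixty hSs (hcen S hS) h with h2 | h2
      · exact Or.inr (Or.inr (Or.inl h2))
      · left
        have := Nat.le_of_dvd (by norm_num) h2
        omega
    · left
      have := Nat.le_of_dvd (by norm_num) (simple_six hSs (hcen S hS) h)
      omega

end Cfsg.Agent.H923.S8.J2
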